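import Groth.Agent.TorusLift.Rank

/-!
# The nilpotent rank is locally constant where maximal tori exist etale-locally
-/

set_option autoImplicit false
set_option linter.style.haveILetI false
set_option backward.isDefEq.respectTransparency false
set_option maxHeartbeats 1000000
set_option synthInstance.maxHeartbeats 400000

universe u

open CategoryTheory Limits MonoidalCategory CartesianMonoidalCategory MonObj GrpObj AlgebraicGeometry
open scoped CategoryTheory.Obj

noncomputable section

namespace Groth.Agent.TorusLift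

open Groth.Agent.MTBridge Groth.Agent.Chev

variable {S : Scheme.{u}} {G : Over S} [GrpObj G] [IsAffineHom G.hom] [Smooth G.hom]

/-- The dimension of Cartan subgroups depends on the point only. -/
theorem dim_cartan_eq_of_point {K L : Type u} [Field K] [IsAlgClosed K] [Field L] [IsAlgClosed L]
    (x : Spec (CommRingCat.of K) ⟶ S) (y : Spec (CommRingCat.of L) ⟶ S)
    (h : x (IsLocalRing.closedPoint K) = y (IsLocalRing.closedPoint L))
    {C : Over (Spec (CommRingCat.of K))} [GrpObj C] (c : C ⟶ Red.bc x G) (hc : SGA3x.IsCartanOver K c)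
    {C' : Over (Spec (CommRingCat.of L))} [GrpObj C'] (c' : C' ⟶ Red.bc y G) (hc' : SGA3x.IsCartanOver L c') :
    topologicalKrullDim ↥C.left = topologicalKrullDim ↥C'.left := by
  have key : ∀ {K L : Type u} [Field K] [IsAlgClosed K] [Field L] [IsAlgClosed L]
      (x : Spec (CommRingCat.of K) ⟶ S) (y : Spec (CommRingCat.of L) ⟶ S),
      x (IsLocalRing.closedPoint K) = y (IsLocalRing.closedPoint L) →
      ∀ (C : Over (Spec (CommRingCat.of K))) [GrpObj C] (c : C ⟶ Red.bc x G), SGA3x.IsCartanOver K c →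
      ∀ (C' : Over (Spec (CommRingCat.of L))) [GrpObj C'] (c' : C' ⟶ Red.bc y G), SGA3x.IsCartanOver L c' →
      topologicalKrullDim ↥C'.left ≤ topologicalKrullDim ↥C.left := by
    intro K L _ _ _ _ x y h C _ c hc C' _ c' hc'
    obtain ⟨-, -, T, _, i, hi, hC⟩ := hc
    haveI := hi.1; haveI := hi.2.1
    obtain ⟨U, hxU, hU⟩ := MTImage.exists_nhd_rank x i hi.2.2.1 c hC
    obtain ⟨_, _, _, C'', _, c'', -, hc'', -, hle⟩ := hU L y (h ▸ hxU)
    haveI : Smooth (Red.bc y G).hom := inferInstanceAs (Smooth (pullback.snd G.hom y))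
    haveI : QuasiCompact (Red.bc y G).hom := inferInstanceAs (QuasiCompact (pullback.snd G.hom y))
    obtain ⟨g, φ, -⟩ := MTImage.exists_conj_cartan c' hc' c'' hc''
    exact (IsHomeomorph.topologicalKrullDim_eq _
      (Scheme.homeoOfIso ((Over.forget _).mapIso φ)).isHomeomorph).trans_le hle
  exact le_antisymm (key y x h.symm C' c' hc' C c hc) (key x y h C c hc C' c' hc')

/-- **The nilpotent rank is locally constant when the reductive rank is.** -/
theorem nilRank_locallyConstant (hr : SGA3x.RedRankLocallyConstant G) (s : S) :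
    ∃ U : S.Opens, s ∈ U ∧ ∃ r : WithBot ℕ∞, ∀ t : S, t ∈ U →
      ∀ (C' : Over (Spec (CommRingCat.of (AlgebraicClosure (S.residueField t))))) [GrpObj C']
        (c' : C' ⟶ Red.geomFibre t G), SGA3x.IsCartanOver (AlgebraicClosure (S.residueField t)) c' →
        topologicalKrullDim ↥C'.left = r := by
  obtain ⟨S', e, r, j, he, ⟨s', rfl⟩, hj⟩ := exists_etale_maxTorus hr s
  haveI := he; haveI := hj.1; haveI := hj.2.1
  let T := Red.DS S' (Fin r → ℤ)
  haveI : IsAffineHom (Red.bc e G).hom := MorphismProperty.pullback_snd (P := @IsAffineHom) G.hom e ‹_›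
  haveI : Smooth (Red.bc e G).hom := inferInstanceAs (Smooth (pullback.snd G.hom e))
  obtain ⟨Z, _, z, hZ, hzc, hZs⟩ := exists_centralizer T (Red.bc e G)
    (locally_of_isMultTypeFT' T (isMultTypeFT_of_isTorus T hj.2.2.1)) inferInstance inferInstance j
  haveI := hZ.1; haveI := hZ.2.1; haveI := hZs; haveI := hzc
  let d := fun t : S' => topologicalKrullDim ↥(Z.hom ⁻¹' {t})
  obtain ⟨U', hU', hsU', hd⟩ := (IsLocallyConstant.iff_exists_open d).1 (GrpDim.isLocallyConstant_dim Z) s'
  refine ⟨⟨e.base '' U', e.isOpenMap _ hU'⟩, ⟨s', hsU', rfl⟩, d s', fun t ht C' _ c' hc' => ?_⟩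
  obtain ⟨t', ht', rfl⟩ := ht
  let K := AlgebraicClosure (S'.residueField t')
  let y : Spec (CommRingCat.of K) ⟶ S := Red.geomPt t' ≫ e
  let q := Red.geomPt t'
  haveI : PreservesLimitsOfShape WalkingCospan (Over.pullback q) :=
    (Adjunction.rightAdjoint_preservesLimits (Over.mapPullbackAdj q)).preservesLimitsOfShape
  have hTK : Red.IsTorus (Red.bc q T) := Borel.isTorus_bc_scheme T _ hj.2.2.1
  have hmax : Red.IsMaximalTorus ((Over.pullback q).map j) := Borel.isMaximalTorus_of_isMaxTorus _
    ⟨inferInstance, inferInstance, hTK, fun T' _ u _ _ f hT' hf => hj.2.2.2 t' T' u f hT' hf⟩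
  let eG : Red.bc q (Red.bc e G) ≅ Red.bc y G := ((Grp.forget _).mapIso (bcComp e q G)).symm
  haveI : IsMonHom eG.hom := (bcComp e q G).inv.hom.isMonHom_hom
  haveI : IsMonHom (Iso.refl (Red.bc q Z)).hom := inferInstanceAs (IsMonHom (𝟙 _))
  have hcart : SGA3x.IsCartanOver K ((Over.pullback q).map z) :=
    ⟨inferInstance, inferInstance, _, inferInstance, _, hmax, Chev.CentBC.isCentralizerOf_bc q j z hZ⟩
  have hcart' : SGA3x.IsCartanOver K ((Over.pullback q).map z ≫ eG.hom) :=
    MTImage.isCartanOver_iso (Iso.refl _) eG _ _ (by rw [Iso.refl_hom, Category.id_comp]) hcart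
  rw [dim_cartan_eq_of_point (Red.geomPt (e t')) y
    ((MTImage.geomPt_closedPoint _).trans (by rw [Scheme.Hom.comp_apply, MTImage.geomPt_closedPoint]))
    c' hc' _ hcart', MTImage.dim_geomFibre]
  exact hd t' ht'

end Groth.Agent.TorusLift
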