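import Groth.Agent.TorusLift.Rank
import Groth.Agent.MTImage.NilpotentTori
import Groth.Agent.MTImage.Cartan
import Groth.Agent.S8433
import Groth.Agent.S5366

/-!
# The maximal torus of a group whose fibres have central tori
-/

set_option autoImplicit false
set_option linter.style.haveILetI false
set_option backward.isDefEq.respectTransparency false
set_option maxHeartbeats 1000000
set_option synthInstance.maxHeartbeats 400000

universe u

open CategoryTheory Limits MonoidalCategory CartesianMonoidalCategory MonObj GrpObj AlgebraicGeometry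
open scoped CategoryTheory.Obj

noncomputable section

namespace Groth.Agent.TorusLift

open Groth.Agent.MTBridge Groth.Agent.Chev

variable {S : Scheme.{u}}

/-- An etale surjection is a covering for quasi-compact opens. -/
theorem exists_qc_lift {S' : Scheme.{u}} (f : S' ⟶ S) [Etale f] [Surjective f] (V : S.Opens) (hV : IsAffineOpen V) :
    ∃ W : S'.Opens, IsCompact (W : Set S') ∧ f.base '' (W : Set S') = (V : Set S) :=
  MTImage.exists_compact_lift f V hV.isCompact

/-- Over a connected geometric fibre the fibre is connected. -/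
theorem isConnected_fibre_of_geom {X : Over S} (t : S) [ConnectedSpace ↥(Red.geomFibre t X).left] :
    _root_.IsConnected (X.hom.base ⁻¹' {t}) := by
  have hr : Set.range (pullback.fst X.hom (Red.geomPt t)) = X.hom.base ⁻¹' {t} := by
    rw [Scheme.Pullback.range_fst]
    haveI : Subsingleton ↥(Spec (CommRingCat.of (AlgebraicClosure (S.residueField t)))) :=
      inferInstanceAs (Subsingleton (PrimeSpectrum _))
    congr 1
    refine Set.eq_singleton_iff_unique_mem.2 ⟨⟨_, MTImage.geomPt_closedPoint t⟩, ?_⟩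
    rintro _ ⟨z, rfl⟩
    rw [Subsingleton.elim z (IsLocalRing.closedPoint _)]
    exact MTImage.geomPt_closedPoint t
  rw [← hr]
  haveI : ConnectedSpace ↥(pullback X.hom (Red.geomPt t)) :=
    inferInstanceAs (ConnectedSpace ↥(Red.geomFibre t X).left)
  exact isConnected_range (pullback.fst X.hom (Red.geomPt t)).continuous

/-- **A torus central on the geometric fibres is central.** -/
theorem central_of_fibres {G T : Over S} [GrpObj G] [GrpObj T] [IsAffineHom G.hom] [Smooth G.hom]
    (hconn : ∀ t : S, _root_.IsConnected (G.hom.base ⁻¹' {t})) (i : T ⟶ G) [IsMonHom i] (hT : Red.IsTorus T)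
    (hfib : ∀ (t : S) (X : Over (Spec (CommRingCat.of (AlgebraicClosure (S.residueField t)))))
      (a : X ⟶ Red.geomFibre t T) (g : X ⟶ Red.geomFibre t G),
      (a ≫ (Over.pullback (Red.geomPt t)).map i) * g = g * (a ≫ (Over.pullback (Red.geomPt t)).map i))
    (X : Over S) (a : X ⟶ T) (g : X ⟶ G) : (a ≫ i) * g = g * (a ≫ i) := by
  obtain ⟨Z, _, z, hZ, hzc, hZs⟩ := exists_centralizer T G
    (locally_of_isMultTypeFT' T (isMultTypeFT_of_isTorus T hT)) inferInstance inferInstance i
  haveI := hZ.1; haveI := hZ.2.1; haveI := hZs; haveI := hzc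
  haveI : QuasiCompact Z.hom := by rw [← Over.w z]; infer_instance
  have hiso : ∀ t : S, IsIso ((Over.pullback (Red.geomPt t)).map z) := fun t => by
    let q := Red.geomPt t
    have hC := Chev.CentBC.isCentralizerOf_bc q i z hZ
    haveI := hC.2.1
    obtain ⟨w, hw⟩ := (hC.2.2 (Red.bc q G) (𝟙 _)).2 fun X x a => by
      rw [Category.comp_id]
      exact (hfib t X a x).symm
    haveI : IsSplitEpi ((Over.pullback q).map z) := ⟨⟨⟨w, hw⟩⟩⟩
    exact isIso_of_mono_of_isSplitEpi _
  have hsurj : Surjective z.left := ⟨fun x => by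
    let q := Red.geomPt (G.hom x)
    haveI := hiso (G.hom x)
    obtain ⟨y, hy⟩ : x ∈ Set.range (pullback.fst G.hom q) := by
      rw [Scheme.Pullback.range_fst]; exact ⟨_, MTImage.geomPt_closedPoint _⟩
    refine ⟨pullback.fst Z.hom q ((inv ((Over.pullback q).map z)).left y), ?_⟩
    have e : (inv ((Over.pullback q).map z)).left ≫ pullback.fst Z.hom q ≫ z.left = pullback.fst G.hom q := by
      rw [← map_left_fst q z, ← Category.assoc, ← Over.comp_left, IsIso.inv_hom_id, Over.id_left, Category.id_comp]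
    exact (congrArg (fun φ => φ y) e).trans hy⟩
  have hZconn : ∀ t : S, _root_.IsConnected (Z.hom.base ⁻¹' {t}) := fun t => by
    have h : Z.hom.base ⁻¹' {t} = z.left.base ⁻¹' (G.hom.base ⁻¹' {t}) := by
      rw [← Set.preimage_comp]
      conv_lhs => rw [← Over.w z]
      rfl
    rw [h]
    exact (hconn t).preimage_of_isClosedMap z.left.isClosedEmbedding.injective
      z.left.isClosedEmbedding.isClosedMap fun x _ => hsurj.surj x
  choose U hU hUiso using fun t : S => MTImage.exists_nhd_iso_of_geom z hZconn hconn t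
    (haveI := hiso t; inferInstanceAs (IsIso ((Over.forget _).map ((Over.pullback (Red.geomPt t)).map z))))
  haveI : IsIso z.left := by
    let 𝒰 := (Scheme.openCoverOfIsOpenCover S U
      (eq_top_iff.2 fun x _ => TopologicalSpace.Opens.mem_iSup.2 ⟨x, hU x⟩)).pullback₁ G.hom
    refine (MorphismProperty.isomorphisms.iff _).1
      (IsZariskiLocalAtTarget.of_openCover (P := MorphismProperty.isomorphisms Scheme.{u}) 𝒰 fun t => ?_)
    haveI := hUiso t
    haveI h1 : IsIso ((Over.pullback (U t).ι).map z).left :=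
      inferInstanceAs (IsIso ((Over.forget _).map ((Over.pullback (U t).ι).map z)))
    have hsq := isPullback_of_squares (IsPullback.of_hasPullback Z.hom (U t).ι)
      (IsPullback.of_hasPullback G.hom (U t).ι) z _ (map_left_fst (U t).ι z) (map_left_snd (U t).ι z)
    refine (MorphismProperty.isomorphisms.iff _).2 ?_
    show IsIso (pullback.snd z.left (pullback.fst G.hom (U t).ι))
    rw [← hsq.flip.isoPullback_inv_snd]
    infer_instance
  haveI : IsIso ((Over.forget S).map z) := ‹IsIso z.left›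
  haveI : IsIso z := isIso_of_reflects_iso z (Over.forget S)
  exact ((hZ.2.2 X g).1 ⟨g ≫ inv z, by rw [Category.assoc, IsIso.inv_hom_id, Category.comp_id]⟩ X (𝟙 X) a).symm.trans
    (by rw [Category.id_comp])

/-- Connected fibres stay connected on geometric points above. -/
theorem connectedSpace_bc_geom {G : Over S} [GrpObj G] [Smooth G.hom]
    (hconn : ∀ t : S, _root_.IsConnected (G.hom.base ⁻¹' {t})) {K : Type u} [Field K]
    (q : Spec (CommRingCat.of K) ⟶ S) : ConnectedSpace ↥(Red.bc q G).left := by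
  haveI : GeometricallyIrreducible G.hom := GrpField.geometricallyIrreducible_of_connected_fibres G hconn
  haveI : IrreducibleSpace ↥(Red.bc q G).left :=
    GeometricallyIrreducible.geometrically_irreducibleSpace _ _ _ (IsPullback.of_hasPullback G.hom q)
  infer_instance

/-- Points of a base change over a field. -/
theorem exists_pts_equiv {k : Type u} [Field k] {Ω : Type u} [Field Ω]
    (θ : Spec (CommRingCat.of Ω) ⟶ Spec (CommRingCat.of k)) (H : Over (Spec (CommRingCat.of k))) [GrpObj H] :
    Nonempty ((Over.mk θ ⟶ H) ≃* (𝟙_ (Over (Spec (CommRingCat.of Ω))) ⟶ Red.bc θ H)) := by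
  let ε : (Over.map θ).obj (𝟙_ (Over (Spec (CommRingCat.of Ω)))) ≅ Over.mk θ :=
    Over.isoMk (Iso.refl _) (by simp)
  let φ : (Over.mk θ ⟶ H) →* (𝟙_ (Over (Spec (CommRingCat.of Ω))) ⟶ Red.bc θ H) :=
    MonoidHom.mk' (fun a => toBC θ (ε.hom ≫ a)) fun a b => by
      show toBC θ (ε.hom ≫ (a * b)) = _
      rw [MonObj.comp_mul, toBC_mul]
  refine ⟨MulEquiv.ofBijective φ ⟨fun a b h => (cancel_epi ε.hom).1 (toBC_inj θ h), fun b => ?_⟩⟩
  obtain ⟨a, ha⟩ := exists_toBC θ b
  exact ⟨ε.inv ≫ a, by show toBC θ (ε.hom ≫ ε.inv ≫ a) = b; rw [Iso.hom_inv_id_assoc]; exact ha⟩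

/-- Transporting points along an isomorphism of groups. -/
theorem nonempty_pts_congr {Y : Scheme.{u}} {H H' : Grp (Over Y)} (e : H ≅ H') (P : Over Y) :
    Nonempty ((P ⟶ H.X) ≃* (P ⟶ H'.X)) :=
  ⟨{ toFun := fun a => a ≫ e.hom.hom.hom
     invFun := fun a => a ≫ e.inv.hom.hom
     left_inv := fun a => by
       show (a ≫ e.hom.hom.hom) ≫ e.inv.hom.hom = a
       rw [Category.assoc, ← Grp.comp_hom_hom, e.hom_inv_id]; exact Category.comp_id a
     right_inv := fun a => by
       show (a ≫ e.inv.hom.hom) ≫ e.hom.hom.hom = a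
       rw [Category.assoc, ← Grp.comp_hom_hom, e.inv_hom_id]; exact Category.comp_id a
     map_mul' := fun a b => MonObj.mul_comp a b e.hom.hom.hom }⟩

/-- Nilpotence of the points of a geometric fibre depends on the point only. -/
theorem isNilpotent_of_same_point {G : Over S} [GrpObj G] [Smooth G.hom] [QuasiCompact G.hom] {K L : Type u}
    [Field K] [IsAlgClosed K] [Field L] [IsAlgClosed L] (x : Spec (CommRingCat.of K) ⟶ S)
    (y : Spec (CommRingCat.of L) ⟶ S) (h : x (IsLocalRing.closedPoint K) = y (IsLocalRing.closedPoint L))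
    (hn : Group.IsNilpotent (𝟙_ (Over (Spec (CommRingCat.of K))) ⟶ Red.bc x G)) :
    Group.IsNilpotent (𝟙_ (Over (Spec (CommRingCat.of L))) ⟶ Red.bc y G) := by
  obtain ⟨s, hs⟩ : ∃ s, s = x (IsLocalRing.closedPoint K) := ⟨_, rfl⟩
  obtain ⟨a, ha⟩ : ∃ a : Spec (CommRingCat.of K) ⟶ Spec (S.residueField s), a ≫ S.fromSpecResidueField s = x := by
    subst hs; exact ⟨_, Scheme.descResidueField_stalkClosedPointTo_fromSpecResidueField K S x⟩
  obtain ⟨b, hb⟩ : ∃ b : Spec (CommRingCat.of L) ⟶ Spec (S.residueField s), b ≫ S.fromSpecResidueField s = y := by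
    rw [h] at hs; subst hs; exact ⟨_, Scheme.descResidueField_stalkClosedPointTo_fromSpecResidueField L S y⟩
  let k : Type u := S.residueField s
  let Gs : Over (Spec (CommRingCat.of k)) := Red.bc (S.fromSpecResidueField s) G
  letI : GrpObj Gs := Red.grpObj_bc (S.fromSpecResidueField s) G
  haveI : Smooth Gs.hom := inferInstanceAs (Smooth (pullback.snd G.hom _))
  haveI : QuasiCompact Gs.hom := inferInstanceAs (QuasiCompact (pullback.snd G.hom _))
  have key : ∀ (Ω : Type u) [Field Ω] [IsAlgClosed Ω] (c : Spec (CommRingCat.of Ω) ⟶ Spec (CommRingCat.of k))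
      (z : Spec (CommRingCat.of Ω) ⟶ S), c ≫ S.fromSpecResidueField s = z →
      ∀ n : ℕ, (Subgroup.lowerCentralSeries (⊤ : Subgroup (𝟙_ (Over (Spec (CommRingCat.of Ω))) ⟶ Red.bc z G)) n = ⊥ ↔
        ∀ T : Over (Spec (CommRingCat.of k)), Subgroup.lowerCentralSeries (⊤ : Subgroup (T ⟶ Gs)) n = ⊥) := by
    intro Ω _ _ c z hz n
    letI : Algebra k Ω := (Spec.preimage c).hom.toAlgebra
    have hc : Spec.map (CommRingCat.ofHom (algebraMap k Ω)) = c := Spec.map_preimage c
    rw [(Groth.Agent.S5366.result k Gs Ω n).2, hc]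
    obtain ⟨e₁⟩ := exists_pts_equiv c Gs
    obtain ⟨e₂⟩ := nonempty_pts_congr ((bcComp (S.fromSpecResidueField s) c G).symm ≪≫ bcCongr hz G)
      (𝟙_ (Over (Spec (CommRingCat.of Ω))))
    let e : (Over.mk c ⟶ Gs) ≃* (𝟙_ (Over (Spec (CommRingCat.of Ω))) ⟶ Red.bc z G) := e₁.trans e₂
    have hmap := Subgroup.map_lowerCentralSeries (S := ⊤) e.toMonoidHom n
    rw [Subgroup.map_top_of_surjective e.toMonoidHom e.surjective] at hmap
    rw [← hmap]
    exact (Subgroup.map_eq_bot_iff_of_injective _ e.injective)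
  rw [nilpotent_iff_lowerCentralSeries] at hn ⊢
  obtain ⟨n, hn⟩ := hn
  exact ⟨n, (key L b y hb n).2 ((key K a x ha n).1 hn)⟩

/-- **The maximal torus** when maximal tori on etale neighbourhoods are central. -/
theorem exists_maxTorus_of_central {G : Over S} [GrpObj G] [IsAffineHom G.hom] [Smooth G.hom]
    (hr : SGA3x.RedRankLocallyConstant G)
    (hcen : ∀ (S' : Scheme.{u}) (f : S' ⟶ S), Etale f → ∀ (T : Over S') [GrpObj T] (i : T ⟶ Red.bc f G),
      Red.IsMaximalTorus i → ∀ (X : Over S') (t : X ⟶ T) (g : X ⟶ Red.bc f G), (t ≫ i) * g = g * (t ≫ i)) :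
    ∃ (T : Over S) (_ : GrpObj T) (i : T ⟶ G), Red.IsMaximalTorus i ∧
      (∀ (X : Over S) (t : X ⟶ T) (g : X ⟶ G), (t ≫ i) * g = g * (t ≫ i)) ∧
      ∀ (R : Over S) [GrpObj R] (j : R ⟶ G) [IsMonHom j] [Mono j], Red.IsTorus R → ∃ f : R ⟶ T, f ≫ i = j := by
  obtain ⟨S', f, he, hs, T, hT, i, hi⟩ := hasMaxTorusEtaleLocally hr
  haveI := he; haveI := hs
  exact Groth.Agent.S8433.result S G
    ⟨S', f, inferInstance, hs, fun V hV => exists_qc_lift f V hV, T, hT, i, hi, hcen S' f he T i hi⟩

/-- **The maximal torus of a group with nilpotent connected fibres.** -/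
theorem exists_maxTorus_of_nilpotent {G : Over S} [GrpObj G] [IsAffineHom G.hom] [Smooth G.hom]
    (hconn : ∀ s : S, ConnectedSpace ↥(Red.geomFibre s G).left)
    (hnil : ∀ s : S, Group.IsNilpotent
      (𝟙_ (Over (Spec (CommRingCat.of (AlgebraicClosure (S.residueField s))))) ⟶ Red.geomFibre s G))
    (hr : SGA3x.RedRankLocallyConstant G) :
    ∃ (T : Over S) (_ : GrpObj T) (i : T ⟶ G), Red.IsMaximalTorus i ∧
      (∀ (X : Over S) (t : X ⟶ T) (g : X ⟶ G), (t ≫ i) * g = g * (t ≫ i)) ∧
      ∀ (R : Over S) [GrpObj R] (j : R ⟶ G) [IsMonHom j] [Mono j], Red.IsTorus R → ∃ f : R ⟶ T, f ≫ i = j := by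
  have hconn' : ∀ t : S, _root_.IsConnected (G.hom.base ⁻¹' {t}) := fun t => by
    haveI := hconn t
    exact isConnected_fibre_of_geom t
  refine exists_maxTorus_of_central hr fun S' f hf T _ i hi => ?_
  haveI := hf; haveI := hi.1; haveI := hi.2.1
  haveI : IsAffineHom (Red.bc f G).hom := MorphismProperty.pullback_snd (P := @IsAffineHom) G.hom f ‹_›
  haveI : Smooth (Red.bc f G).hom := inferInstanceAs (Smooth (pullback.snd G.hom f))
  have hnil' : ∀ t : S', Group.IsNilpotent
      (𝟙_ (Over (Spec (CommRingCat.of (AlgebraicClosure (S'.residueField t))))) ⟶ Red.geomFibre t (Red.bc f G)) :=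
    fun t => by
      obtain ⟨e₂⟩ := nonempty_pts_congr (bcComp f (Red.geomPt t) G)
        (𝟙_ (Over (Spec (CommRingCat.of (AlgebraicClosure (S'.residueField t))))))
      haveI : Group.IsNilpotent (𝟙_ (Over (Spec (CommRingCat.of (AlgebraicClosure (S'.residueField t))))) ⟶
          Red.bc (Red.geomPt t ≫ f) G) :=
        isNilpotent_of_same_point (Red.geomPt (f t)) (Red.geomPt t ≫ f)
          ((MTImage.geomPt_closedPoint _).trans (by rw [Scheme.Hom.comp_apply, MTImage.geomPt_closedPoint]))
          (hnil (f t))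
      exact Group.nilpotent_of_mulEquiv e₂
  refine central_of_fibres (MTImage.isConnected_fibre_bc G hconn' f) i hi.2.2.1 fun t X a g => ?_
  haveI : ConnectedSpace ↥(Red.geomFibre t (Red.bc f G)).left :=
    connectedSpace_bc_geom (MTImage.isConnected_fibre_bc G hconn' f) (Red.geomPt t)
  haveI : PreservesLimitsOfShape WalkingCospan (Over.pullback (Red.geomPt t)) :=
    (Adjunction.rightAdjoint_preservesLimits (Over.mapPullbackAdj (Red.geomPt t))).preservesLimitsOfShape
  haveI : Smooth (Red.geomFibre t (Red.bc f G)).hom := inferInstanceAs (Smooth (pullback.snd _ _))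
  haveI : QuasiCompact (Red.geomFibre t (Red.bc f G)).hom := inferInstanceAs (QuasiCompact (pullback.snd _ _))
  exact MTImage.torus_central_general (hnil' t) _ (Borel.isTorus_bc_scheme T _ hi.2.2.1) X a g

end Groth.Agent.TorusLift
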