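import Groth.Agent.TorusLift.Weights
import Groth.Agent.MultT.AdicLift
import Groth.Agent.MultT.SplitConn

/-!
# The scheme of homomorphisms with bounded weights

Homomorphisms `D(M) → Spec A` whose weights on a generating comodule lie in a finite set are parametrised by an
algebra of finite type, formally smooth where no further weight occurs.
-/

set_option autoImplicit false
set_option linter.style.haveILetI false
set_option backward.isDefEq.respectTransparency false
set_option maxHeartbeats 800000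

universe u

open TensorProduct WithConv

noncomputable section

namespace Groth.Agent.TorusLift

variable {R A : Type u} [CommRing R] [CommRing A] [HopfAlgebra R A] {M : Type u} [CommGroup M]

/-- The coefficient of a pair of monomials. -/
def cc {T : Type u} [CommRing T] (m n : M) : MonoidAlgebra T M ⊗[T] MonoidAlgebra T M →ₗ[T] T :=
  (LinearMap.mul' T T).comp (TensorProduct.map (co m) (co n))

theorem cc_tmul {T : Type u} [CommRing T] (m n : M) (x y : MonoidAlgebra T M) :
    cc m n (x ⊗ₜ y) = x.coeff m * y.coeff n := by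
  simp [cc]

/-- The comultiplication of Laurent polynomials in coordinates. -/
theorem cc_comul {T : Type u} [CommRing T] (m n : M) (p : MonoidAlgebra T M) :
    (m = n → cc m n (Coalgebra.comul (R := T) p) = p.coeff m) ∧
      (m ≠ n → cc m n (Coalgebra.comul (R := T) p) = 0) := by
  classical
  induction p using MonoidAlgebra.induction_linear with
  | zero => simp
  | add a b ha hb => exact ⟨fun e => by rw [map_add, map_add, ha.1 e, hb.1 e, MonoidAlgebra.coeff_add,
      Finsupp.add_apply], fun e => by rw [map_add, map_add, ha.2 e, hb.2 e, add_zero]⟩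
  | single k t =>
    rw [MonoidAlgebra.comul_single, CommSemiring.comul_apply, TensorProduct.map_tmul, cc_tmul]
    refine ⟨fun e => ?_, fun e => ?_⟩
    · subst e; by_cases h : k = m <;> simp [MonoidAlgebra.single_apply, h]
    · by_cases h : k = m
      · subst h; simp [MonoidAlgebra.single_apply, e]
      · simp [MonoidAlgebra.single_apply, h]

/-- A tensor with small coordinates is small. -/
theorem mem_map_of_cc {T : Type u} [CommRing T] {I : Ideal T} (z : MonoidAlgebra T M ⊗[T] MonoidAlgebra T M)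
    (h : ∀ m n, cc m n z ∈ I) : z ∈ I.map (algebraMap T (MonoidAlgebra T M ⊗[T] MonoidAlgebra T M)) := by
  classical
  let b := (MonoidAlgebra.basis M T).tensorProduct (MonoidAlgebra.basis M T)
  have hb : ∀ m n, b.repr z (m, n) = cc m n z := fun m n => by
    induction z using TensorProduct.induction_on with
    | zero => simp
    | add a c ha hc => simp only [map_add, Finsupp.add_apply]; rw [ha' a m n, ha' c m n]
    | tmul x y => simp [b, cc_tmul, MonoidAlgebra.basis, mul_comm]
  rw [← b.linearCombination_repr z, Finsupp.linearCombination_apply]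
  refine Submodule.sum_mem _ fun i _ => ?_
  show b.repr z i • b i ∈ _
  rw [← algebraMap_smul (MonoidAlgebra T M ⊗[T] MonoidAlgebra T M) (b.repr z i) (b i), smul_eq_mul]
  exact Ideal.mul_mem_right _ _ (Ideal.mem_map_of_mem _ (by rw [show i = (i.1, i.2) from rfl, hb]; exact h _ _))
where
  /-- The coordinates in the product basis. -/
  ha' {T : Type u} [CommRing T] (z : MonoidAlgebra T M ⊗[T] MonoidAlgebra T M) (m n : M) :
      ((MonoidAlgebra.basis M T).tensorProduct (MonoidAlgebra.basis M T)).repr z (m, n) = cc m n z := by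
    induction z using TensorProduct.induction_on with
    | zero => simp
    | add a c ha hc => simp only [map_add, Finsupp.add_apply, ha, hc]
    | tmul x y => simp [cc_tmul, MonoidAlgebra.basis, mul_comm]

/-- The group algebra is of multiplicative type. -/
theorem isMultType_monoidAlgebra (T : Type u) [CommRing T] : SGA3b.IsMultType T (MonoidAlgebra T M) :=
  MultT.isMultType_of_const ⟨T, inferInstance, inferInstance, inferInstance, M, inferInstance,
    ⟨Bialgebra.TensorProduct.lid T (MonoidAlgebra T M)⟩⟩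

/-- **Homomorphisms lift along square zero extensions** when the target is smooth. -/
theorem exists_gh_lift [Algebra.FormallySmooth R A] {T : Type u} [CommRing T] [Algebra R T] (I : Ideal T)
    (hI : IsNilpotent I) (u₀ : A →ₐ[R] MonoidAlgebra (T ⧸ I) M) (h₀ : IsGH u₀) :
    ∃ u : A →ₐ[R] MonoidAlgebra T M, IsGH u ∧ mapT (Ideal.Quotient.mkₐ R I) u = u₀ := by
  classical
  let q : MonoidAlgebra T M →ₐ[R] MonoidAlgebra (T ⧸ I) M := MonoidAlgebra.mapAlgHom M (Ideal.Quotient.mkₐ R I)
  have hq : Function.Surjective q := fun x => by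
    induction x using MonoidAlgebra.induction_linear with
    | zero => exact ⟨0, map_zero _⟩
    | add a b ha hb =>
      obtain ⟨a', rfl⟩ := ha
      obtain ⟨b', rfl⟩ := hb
      exact ⟨a' + b', map_add _ _ _⟩
    | single m t =>
      obtain ⟨t', rfl⟩ := Ideal.Quotient.mk_surjective t
      exact ⟨MonoidAlgebra.single m t', by simp [q]⟩
  have hkerle : RingHom.ker q.toRingHom ≤ I.map (algebraMap T (MonoidAlgebra T M)) := fun x hx => by
    rw [← MonoidAlgebra.sum_coeff_single x]
    refine Ideal.sum_mem _ fun m _ => ?_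
    rw [show MonoidAlgebra.single m (x.coeff m) = algebraMap T _ (x.coeff m) * MonoidAlgebra.single m 1 by
      simp [MonoidAlgebra.single_mul_single]]
    refine Ideal.mul_mem_right _ _ (Ideal.mem_map_of_mem _ ?_)
    rw [← Ideal.Quotient.eq_zero_iff_mem]
    have h := congrArg (fun y => y.coeff m) (RingHom.mem_ker.1 hx)
    simpa [q] using h
  have hnil : IsNilpotent (RingHom.ker q.toRingHom) := by
    obtain ⟨N, hN⟩ := hI
    refine ⟨N, le_bot_iff.1 ((Ideal.pow_right_mono hkerle N).trans ?_)⟩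
    rw [← Ideal.map_pow, hN, Ideal.zero_eq_bot, Ideal.map_bot]
  let ψ₀ : A →ₐ[R] MonoidAlgebra T M := Algebra.FormallySmooth.liftOfSurjective u₀ q hq hnil
  have hψ₀ : ∀ x, q (ψ₀ x) = u₀ x := Algebra.FormallySmooth.liftOfSurjective_apply u₀ q hq hnil
  have hψc : ∀ m x, Ideal.Quotient.mk I (coef ψ₀ m x) = coef u₀ m x := fun m x => by
    rw [coef_apply, coef_apply, ← hψ₀]
    simp [q]
  let φ₀ : T ⊗[R] A →ₐ[T] MonoidAlgebra T M :=
    Algebra.TensorProduct.lift (Algebra.ofId T _) ψ₀ fun _ _ => Commute.all _ _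
  have hφ₀ : ∀ x, φ₀ (1 ⊗ₜ x) = ψ₀ x := fun x => by simp [φ₀, ← Algebra.TensorProduct.one_def, ← MonoidAlgebra.one_def]
  -- coordinates of a pair of values
  have hpair : ∀ (φ : T ⊗[R] A →ₐ[T] MonoidAlgebra T M) (m n : M) (z : A ⊗[R] A),
      cc m n (Algebra.TensorProduct.map φ φ
        (TensorProduct.AlgebraTensorModule.distribBaseChange R T A A ((1 : T) ⊗ₜ[R] z))) =
      coef₂ ((φ.restrictScalars R).comp Algebra.TensorProduct.includeRight) m n z := by
    intro φ m n z
    induction z using TensorProduct.induction_on with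
    | zero => simp
    | add a b ha hb => simp only [TensorProduct.tmul_add, map_add, ha, hb]
    | tmul a b =>
      rw [TensorProduct.AlgebraTensorModule.distribBaseChange_tmul, Algebra.TensorProduct.map_tmul, cc_tmul,
        coef₂_tmul]
      rfl
  have hcomul : ∀ x : A, Coalgebra.comul (R := T) ((1 : T) ⊗ₜ[R] x) =
      TensorProduct.AlgebraTensorModule.distribBaseChange R T A A ((1 : T) ⊗ₜ[R] Coalgebra.comul (R := R) x) :=
    fun x => by rw [MultT.comul_eq_distrib, LinearMap.baseChange_tmul]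
  have hgood : MultT.Good I φ₀ := by
    intro z
    induction z using TensorProduct.induction_on with
    | zero => simp
    | add a b ha hb => simp only [WithConv.ofConv_sub, LinearMap.sub_apply, map_add] at ha hb ⊢
                       convert Ideal.add_mem _ ha hb using 1
    | tmul r c =>
      rw [show r ⊗ₜ[R] c = r • ((1 : T) ⊗ₜ[R] c) by rw [TensorProduct.smul_tmul', smul_eq_mul, mul_one],
        map_smul, Algebra.smul_def]
      refine Ideal.mul_mem_left _ _ (mem_map_of_cc _ fun m n => ?_)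
      show cc m n (MultT.lawQ φ₀ ((1 : T) ⊗ₜ[R] c) - MultT.lawP φ₀ ((1 : T) ⊗ₜ[R] c)) ∈ I
      rw [MultT.lawP_apply, hcomul,
        show MultT.lawQ φ₀ ((1 : T) ⊗ₜ[R] c) = Coalgebra.comul (R := T) (ψ₀ c) by rw [← hφ₀]; rfl,
        map_sub, hpair, ← Ideal.Quotient.eq_zero_iff_mem, map_sub, sub_eq_zero]
      have hred : ∀ z : A ⊗[R] A, Ideal.Quotient.mk I
          (coef₂ ((φ₀.restrictScalars R).comp Algebra.TensorProduct.includeRight) m n z) = coef₂ u₀ m n z := by
        intro z
        induction z using TensorProduct.induction_on with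
        | zero => simp
        | add a b ha hb => simp only [map_add, ha, hb]
        | tmul a b =>
          rw [coef₂_tmul, coef₂_tmul, map_mul, ← hψc, ← hψc]
          simp [coef_apply, hφ₀]
      rw [hred]
      by_cases e : m = n
      · subst e
        rw [(cc_comul m m _).1 rfl, h₀.comul, ← hψc]; rfl
      · rw [(cc_comul m n _).2 e, h₀.comul_ne _ _ _ e, map_zero]
  obtain ⟨φ, hφ⟩ := MultT.exists_lift_of_good (isMultType_monoidAlgebra T) I hI φ₀ hgood
  let u : A →ₐ[R] MonoidAlgebra T M :=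
    ((φ : T ⊗[R] A →ₐ[T] MonoidAlgebra T M).restrictScalars R).comp Algebra.TensorProduct.includeRight
  have hu : ∀ x, u x = φ ((1 : T) ⊗ₜ[R] x) := fun x => rfl
  have hc2 : ∀ (x : A) (m n : M),
      coef₂ u m n (Coalgebra.comul x) = cc m n (Coalgebra.comul (R := T) (u x)) := by
    intro x m n
    rw [hu, ← CoalgHomClass.map_comp_comul_apply φ, hcomul, ← hpair]
    rfl
  refine ⟨u, ⟨fun x m => by rw [hc2, (cc_comul m m _).1 rfl]; rfl, fun x m n e => by rw [hc2, (cc_comul m n _).2 e],
    fun x => ?_⟩, AlgHom.ext fun x => ?_⟩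
  · have h := CoalgHomClass.counit_comp_apply φ ((1 : T) ⊗ₜ[R] x)
    rw [TensorProduct.counit_tmul, CommSemiring.counit_apply, ← Algebra.algebraMap_eq_smul_one] at h
    rw [← h, hu]
    generalize φ ((1 : T) ⊗ₜ[R] x) = p
    induction p using MonoidAlgebra.induction_linear with
    | zero => simp
    | add a b ha hb => rw [map_add, MonoidAlgebra.coeff_add, Finsupp.sum_add_index' (fun _ => rfl) fun _ _ _ => rfl, ha, hb]
    | single k t => simp
  · refine MonoidAlgebra.ext (Finsupp.ext fun m => ?_)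
    show (q (u x)).coeff m = _
    rw [← hψ₀]
    simp only [q, MonoidAlgebra.coeff_mapAlgHom, Ideal.Quotient.mkₐ_eq_mk, Ideal.Quotient.eq]
    have h := hφ ((1 : T) ⊗ₜ[R] x)
    rw [hφ₀] at h
    have h' := MultT.map_mem_map (co m) h
    rw [map_sub, Algebra.algebraMap_self, Ideal.map_id] at h'
    exact h'

/-- **The universal homomorphism with weights in a finite set.** -/
theorem exists_bounded {n : ℕ} (a : Fin n → A) (ha : Algebra.adjoin R (Set.range a) = ⊤) (B : Finset M) :
    ∃ (R' : Type u) (_ : CommRing R') (_ : Algebra R R') (u : A →ₐ[R] MonoidAlgebra R' M),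
      Algebra.FiniteType R R' ∧ IsGH u ∧ (∀ i, ∀ m ∉ B, coef u m (a i) = 0) ∧
      (∀ (T : Type u) [CommRing T] [Algebra R T] (v : A →ₐ[R] MonoidAlgebra T M), IsGH v →
        (∀ i, ∀ m ∉ B, coef v m (a i) = 0) → ∃ f : R' →ₐ[R] T, mapT f u = v) ∧
      ∀ (T : Type u) [CommRing T] [Algebra R T] (f g : R' →ₐ[R] T), mapT f u = mapT g u → f = g := by
  classical
  let π : MvPolynomial (Fin n) R →ₐ[R] A := MvPolynomial.aeval a
  have hπ : Function.Surjective π := fun x => by
    have h : x ∈ π.range := by rw [← Algebra.adjoin_range_eq_range_aeval, ha]; trivial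
    exact h
  let P := MvPolynomial (Fin n × B) R
  let φ : MvPolynomial (Fin n) R →ₐ[R] MonoidAlgebra P M :=
    MvPolynomial.aeval fun i => ∑ m : B, MonoidAlgebra.single (m : M) (MvPolynomial.X (i, m))
  let J₁ : Ideal P := Ideal.span {p | ∃ f, π f = 0 ∧ ∃ m, p = (φ f).coeff m}
  let q₁ : P →ₐ[R] P ⧸ J₁ := Ideal.Quotient.mkₐ R J₁
  let φ₁ : MvPolynomial (Fin n) R →ₐ[R] MonoidAlgebra (P ⧸ J₁) M := (MonoidAlgebra.mapAlgHom M q₁).comp φ
  have hker : RingHom.ker π.toRingHom ≤ RingHom.ker φ₁.toRingHom := fun f hf => RingHom.mem_ker.2 (by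
    refine MonoidAlgebra.ext (Finsupp.ext fun m => ?_)
    show ((MonoidAlgebra.mapAlgHom M q₁) (φ f)).coeff m = _
    rw [MonoidAlgebra.coeff_mapAlgHom, MonoidAlgebra.coeff_zero, Finsupp.zero_apply]
    exact Ideal.Quotient.eq_zero_iff_mem.2 (Ideal.subset_span ⟨f, RingHom.mem_ker.1 hf, m, rfl⟩))
  let u₁r : A →+* MonoidAlgebra (P ⧸ J₁) M := π.toRingHom.liftOfSurjective hπ ⟨φ₁.toRingHom, hker⟩
  have hu₁ : ∀ f, u₁r (π f) = φ₁ f := fun f => RingHom.liftOfSurjective_comp_apply _ hπ _ f
  let u₁ : A →ₐ[R] MonoidAlgebra (P ⧸ J₁) M :=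
    AlgHom.mk u₁r (fun r => (congrArg u₁r (π.commutes r).symm).trans ((hu₁ _).trans (φ₁.commutes r)))
  let J₂ : Ideal (P ⧸ J₁) := Ideal.span {p |
    (∃ (x : A) (m : M), p = coef₂ u₁ m m (Coalgebra.comul x) - coef u₁ m x) ∨
    (∃ (x : A) (m m' : M), m ≠ m' ∧ p = coef₂ u₁ m m' (Coalgebra.comul x)) ∨
    ∃ x : A, p = (u₁ x).coeff.sum (fun _ c => c) - algebraMap R _ (Coalgebra.counit x)}
  let q₂ : P ⧸ J₁ →ₐ[R] (P ⧸ J₁) ⧸ J₂ := Ideal.Quotient.mkₐ R J₂
  let u := mapT (T := P ⧸ J₁) (T' := (P ⧸ J₁) ⧸ J₂) q₂ u₁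
  have hmap : ∀ {T : Type u} [CommRing T] [Algebra R T] (f : P ⧸ J₁ →ₐ[R] T) (m m' : M) (z : A ⊗[R] A),
      coef₂ (mapT f u₁) m m' z = f (coef₂ u₁ m m' z) := by
    intro T _ _ f m m' z
    induction z using TensorProduct.induction_on with
    | zero => simp
    | add a b ha hb => simp only [map_add, ha, hb]
    | tmul a b => rw [coef₂_tmul, coef₂_tmul, coef_mapT, coef_mapT, map_mul]
  have hsum : ∀ {T : Type u} [CommRing T] [Algebra R T] (f : P ⧸ J₁ →ₐ[R] T) (x : A),
      (mapT f u₁ x).coeff.sum (fun _ c => c) = f ((u₁ x).coeff.sum fun _ c => c) := by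
    intro T _ _ f x
    rw [map_finsuppSum, show (mapT f u₁ x).coeff = (u₁ x).coeff.mapRange f (map_zero f) from
      Finsupp.ext fun m => by rw [Finsupp.mapRange_apply]; exact coef_mapT f u₁ m x,
      Finsupp.sum_mapRange_index fun _ => rfl]
  have hgen : ∀ i m, coef u₁ m (a i) = q₁ (if h : m ∈ B then MvPolynomial.X (i, ⟨m, h⟩) else 0) := by
    intro i m
    rw [coef_apply, show u₁ (a i) = φ₁ (MvPolynomial.X i) by
      show u₁r (a i) = _; rw [← hu₁]; simp [π]]
    show ((MonoidAlgebra.mapAlgHom M q₁) (φ (MvPolynomial.X i))).coeff m = _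
    rw [MonoidAlgebra.coeff_mapAlgHom]
    congr 1
    simp only [φ, MvPolynomial.aeval_X, MonoidAlgebra.coeff_sum, Finsupp.finset_sum_apply,
      MonoidAlgebra.coeff_single, Finsupp.single_apply]
    by_cases h : m ∈ B
    · rw [dif_pos h, Finset.sum_eq_single ⟨m, h⟩ (fun b _ hb => if_neg fun e => hb (Subtype.ext e))
        (fun h' => absurd (Finset.mem_univ _) h'), if_pos rfl]
    · rw [dif_neg h, Finset.sum_eq_zero fun b _ => if_neg fun e => h (by rw [← e]; exact b.2)]
  refine ⟨(P ⧸ J₁) ⧸ J₂, inferInstance, inferInstance, u,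
    Algebra.FiniteType.of_surjective (q₂.comp q₁)
      (Ideal.Quotient.mk_surjective.comp Ideal.Quotient.mk_surjective),
    ⟨fun x m => ?_, fun x m m' e => ?_, fun x => ?_⟩, fun i m hm => ?_, ?_, ?_⟩
  · rw [hmap, coef_mapT, ← sub_eq_zero, ← map_sub]
    exact Ideal.Quotient.eq_zero_iff_mem.2 (Ideal.subset_span (Or.inl ⟨x, m, rfl⟩))
  · rw [hmap]
    exact Ideal.Quotient.eq_zero_iff_mem.2 (Ideal.subset_span (Or.inr (Or.inl ⟨x, m, m', e, rfl⟩)))
  · rw [hsum, ← q₂.commutes, ← sub_eq_zero, ← map_sub]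
    exact Ideal.Quotient.eq_zero_iff_mem.2 (Ideal.subset_span (Or.inr (Or.inr ⟨x, rfl⟩)))
  · rw [coef_mapT, hgen, dif_neg hm, map_zero, map_zero]
  · intro T _ _ v hv hvB
    let g : P →ₐ[R] T := MvPolynomial.aeval fun i => coef v (i.2 : M) (a i.1)
    have hg : (MonoidAlgebra.mapAlgHom M g).comp φ = v.comp π := MvPolynomial.algHom_ext fun i => by
      refine MonoidAlgebra.ext (Finsupp.ext fun m => ?_)
      simp only [AlgHom.comp_apply, π, φ, MvPolynomial.aeval_X, map_sum, MonoidAlgebra.mapAlgHom_single,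
        MonoidAlgebra.coeff_sum, Finsupp.finset_sum_apply, MonoidAlgebra.coeff_single, Finsupp.single_apply]
      by_cases h : m ∈ B
      · rw [Finset.sum_eq_single ⟨m, h⟩ (fun b _ hb => if_neg fun e => hb (Subtype.ext e))
          (fun h' => absurd (Finset.mem_univ _) h'), if_pos rfl]
        simp only [g, coef_apply]
        exact MvPolynomial.aeval_X _ _
      · rw [Finset.sum_eq_zero fun b _ => if_neg fun e => h (by rw [← e]; exact b.2)]
        exact (hvB i m h).symm
    have hJ₁ : ∀ p ∈ J₁, g p = 0 := fun p hp => by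
      refine (Ideal.span_le (I := RingHom.ker g.toRingHom)).2 ?_ hp
      rintro _ ⟨f, hf, m, rfl⟩
      have h := congrArg (fun w => w.coeff m) (DFunLike.congr_fun hg f)
      simp only [AlgHom.comp_apply, MonoidAlgebra.coeff_mapAlgHom, hf, map_zero] at h
      simpa using h
    let g₁ : P ⧸ J₁ →ₐ[R] T := Ideal.Quotient.liftₐ J₁ g hJ₁
    have hv₁ : mapT g₁ u₁ = v := AlgHom.ext fun x => by
      obtain ⟨f, rfl⟩ := hπ x
      refine MonoidAlgebra.ext (Finsupp.ext fun m => ?_)
      rw [← coef_apply (mapT g₁ u₁), coef_mapT, coef_apply, show u₁ (π f) = φ₁ f from hu₁ f]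
      show g₁ (((MonoidAlgebra.mapAlgHom M q₁) (φ f)).coeff m) = _
      rw [MonoidAlgebra.coeff_mapAlgHom]
      have h := congrArg (fun w => w.coeff m) (DFunLike.congr_fun hg f)
      simp only [AlgHom.comp_apply, MonoidAlgebra.coeff_mapAlgHom] at h
      exact h
    have hJ₂ : ∀ p ∈ J₂, g₁ p = 0 := fun p hp => by
      refine (Ideal.span_le (I := RingHom.ker g₁.toRingHom)).2 ?_ hp
      rintro _ (⟨x, m, rfl⟩ | ⟨x, m, m', e, rfl⟩ | ⟨x, rfl⟩)
      · show g₁ _ = 0
        rw [map_sub, ← hmap, ← coef_mapT, hv₁, hv.comul, sub_self]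
      · show g₁ _ = 0
        rw [← hmap, hv₁, hv.comul_ne _ _ _ e]
      · show g₁ _ = 0
        rw [map_sub, g₁.commutes, ← hsum, hv₁, hv.counit, sub_self]
    refine ⟨Ideal.Quotient.liftₐ J₂ g₁ hJ₂, ?_⟩
    rw [← hv₁]
    refine AlgHom.ext fun x => MonoidAlgebra.ext (Finsupp.ext fun m => ?_)
    rw [← coef_apply (mapT _ u), ← coef_apply (mapT g₁ u₁), coef_mapT, coef_mapT, coef_mapT]
    rfl
  · intro T _ _ f g hfg
    have h : (f.comp q₂).comp q₁ = (g.comp q₂).comp q₁ := MvPolynomial.algHom_ext fun i => by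
      have e := congrArg (fun w => coef w (i.2 : M) (a i.1)) hfg
      simp only [u, coef_mapT, hgen, dif_pos i.2.2] at e
      exact e
    refine Ideal.Quotient.algHom_ext R (Ideal.Quotient.algHom_ext R ?_)
    exact h

/-- **Formal smoothness where no further weight occurs.** -/
theorem formallySmooth_away [Algebra.FormallySmooth R A] {W : Type u} [AddCommGroup W] [Module R W]
    (c : Coact R A W) (e : W →ₗ[R] R) {n : ℕ} (a : Fin n → A) (w : Fin n → W)
    (hw : ∀ i, TensorProduct.lid R A (e.rTensor A (c.ρ (w i))) = a i) (B : Finset M) {R' : Type u} [CommRing R']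
    [Algebra R R'] (u : A →ₐ[R] MonoidAlgebra R' M) (hu : IsGH u)
    (huniv : ∀ (T : Type u) [CommRing T] [Algebra R T] (v : A →ₐ[R] MonoidAlgebra T M), IsGH v →
      (∀ i, ∀ m ∉ B, coef v m (a i) = 0) → ∃ f : R' →ₐ[R] T, mapT f u = v)
    (hinj : ∀ (T : Type u) [CommRing T] [Algebra R T] (f g : R' →ₐ[R] T), mapT f u = mapT g u → f = g)
    (g : R') (hg : ∀ m ∉ B, ∀ x : R' ⊗[R] W, g • proj c u m x = 0) :
    Algebra.FormallySmooth R (Localization.Away g) := by
  refine Algebra.FormallySmooth.of_comp_surjective fun T _ _ I hI f => ?_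
  let ι : R' →ₐ[R] Localization.Away g := IsScalarTower.toAlgHom R R' _
  let f₀ : R' →ₐ[R] T ⧸ I := f.comp ι
  have hIn : IsNilpotent I := ⟨2, hI⟩
  obtain ⟨v, hv, hv₀⟩ := exists_gh_lift I hIn (mapT f₀ u) (hu.mapT f₀)
  let k := Ideal.Quotient.mkₐ R I
  have hgu : IsUnit (f₀ g) := (IsLocalization.Away.algebraMap_isUnit g).map f
  have hp : ∀ m ∉ B, ∀ x : T ⊗[R] W, proj c v m x = 0 := fun m hm x => by
    let p := proj c v m
    have hidem : ∀ y, p (p y) = p y := fun y => (proj_comp c hv m m y).1 rfl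
    have hstep : ∀ y, p y ∈ I • (⊤ : Submodule T (T ⊗[R] W)) := fun y => by
      have h0 : k.toLinearMap.rTensor W (p y) = 0 := by
        rw [map_proj, hv₀]
        generalize k.toLinearMap.rTensor W y = z
        have hz : ∀ z' : R' ⊗[R] W, proj c (mapT f₀ u) m (f₀.toLinearMap.rTensor W z') = 0 := fun z' => by
          have h := congrArg (f₀.toLinearMap.rTensor W) (hg m hm z')
          rw [map_zero] at h
          rw [← map_proj]
          have hs : ∀ y, f₀.toLinearMap.rTensor W (g • y) = f₀ g • f₀.toLinearMap.rTensor W y := fun y => by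
            induction y using TensorProduct.induction_on with
            | zero => simp
            | add a b ha hb => simp only [smul_add, map_add, ha, hb]
            | tmul a b => simp [TensorProduct.smul_tmul']
          rw [hs] at h
          exact hgu.smul_eq_zero.1 h
        induction z using TensorProduct.induction_on with
        | zero => simp
        | add a b ha hb => rw [map_add, ha, hb, add_zero]
        | tmul t y =>
          rw [show t ⊗ₜ[R] y = t • ((1 : T ⧸ I) ⊗ₜ[R] y) by rw [TensorProduct.smul_tmul', smul_eq_mul, mul_one],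
            map_smul, show (1 : T ⧸ I) ⊗ₜ[R] y = f₀.toLinearMap.rTensor W (1 ⊗ₜ y) by simp, hz, smul_zero]
      exact mem_smul_top_of_rTensor_eq_zero I _ h0
    obtain ⟨N, hN⟩ := hIn
    have hpow : ∀ j, ∀ y, p y ∈ (I ^ j) • (⊤ : Submodule T (T ⊗[R] W)) := fun j => by
      induction j with
      | zero => intro y; simp
      | succ j ih =>
        intro y
        rw [← hidem]
        have h1 : p (p y) ∈ Submodule.map p (I • (⊤ : Submodule T (T ⊗[R] W))) := Submodule.mem_map_of_mem (hstep y)
        rw [Submodule.map_smul''] at h1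
        refine (Submodule.smul_le.2 fun r hr z hz => ?_) h1
        obtain ⟨z', -, rfl⟩ := hz
        rw [pow_succ', Submodule.mul_smul]
        exact Submodule.smul_mem_smul hr (ih z')
    have h := hpow N x
    rw [hN, Ideal.zero_eq_bot, Submodule.bot_smul] at h
    exact h
  obtain ⟨F, hF⟩ := huniv T v hv fun i m hm => by
    rw [← hw, coef_matrix, show proj₀ c v m (w i) = proj c v m (1 ⊗ₜ w i) by rw [proj_tmul, one_smul], hp m hm,
      map_zero]
  have hFk : k.comp F = f₀ := hinj _ _ _ (by
    rw [← hv₀, ← hF]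
    refine AlgHom.ext fun x => MonoidAlgebra.ext (Finsupp.ext fun m => ?_)
    rw [← coef_apply (mapT (k.comp F) u), ← coef_apply (mapT k (mapT F u)), coef_mapT, coef_mapT, coef_mapT]
    rfl)
  have hFg : IsUnit (F g) := by
    obtain ⟨y, hy⟩ := Ideal.Quotient.mk_surjective ((hgu.unit⁻¹ : (T ⧸ I)ˣ) : T ⧸ I)
    have h1 : IsNilpotent (F g * y - 1) := by
      obtain ⟨N, hN⟩ := hIn
      refine ⟨N, ?_⟩
      have hmem : F g * y - 1 ∈ I := by
        rw [← Ideal.Quotient.eq_zero_iff_mem, map_sub, map_mul, map_one, hy,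
          show Ideal.Quotient.mk I (F g) = f₀ g from DFunLike.congr_fun hFk g, IsUnit.mul_val_inv, sub_self]
      simpa [hN] using Ideal.pow_mem_pow hmem N
    have h2 := h1.isUnit_one_add
    rw [add_sub_cancel] at h2
    exact isUnit_of_mul_isUnit_left h2
  refine ⟨IsLocalization.liftAlgHom (M := Submonoid.powers g) (f := F) fun y => by
    obtain ⟨_, N, rfl⟩ := y; rw [map_pow]; exact hFg.pow N, ?_⟩
  refine IsLocalization.algHom_ext (Submonoid.powers g) (AlgHom.ext fun x => ?_)
  simp only [AlgHom.comp_apply, IsScalarTower.toAlgHom_apply]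
  show k (IsLocalization.liftAlgHom _ (algebraMap R' _ x)) = f₀ x
  rw [← hFk]
  simp [IsLocalization.liftAlgHom_apply, IsLocalization.lift_eq]
where
  /-- The kernel of reduction. -/
  mem_smul_top_of_rTensor_eq_zero {W T : Type u} [AddCommGroup W] [Module R W] [CommRing T] [Algebra R T] (I : Ideal T)
      (y : T ⊗[R] W) (h : (Ideal.Quotient.mkₐ R I).toLinearMap.rTensor W y = 0) :
      y ∈ I • (⊤ : Submodule T (T ⊗[R] W)) := by
    have hex := rTensor_exact W (f := (I.subtype.restrictScalars R)) (g := (Ideal.Quotient.mkₐ R I).toLinearMap)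
      (fun z => by
        constructor
        · intro hz
          exact ⟨⟨z, Ideal.Quotient.eq_zero_iff_mem.1 hz⟩, rfl⟩
        · rintro ⟨z, rfl⟩
          exact Ideal.Quotient.eq_zero_iff_mem.2 z.2)
      Ideal.Quotient.mk_surjective
    obtain ⟨z, rfl⟩ := (hex y).1 h
    clear h
    induction z using TensorProduct.induction_on with
    | zero => simp
    | add a b ha hb => rw [map_add]; exact add_mem ha hb
    | tmul i b =>
      rw [LinearMap.rTensor_tmul]
      show (i : T) ⊗ₜ[R] b ∈ _
      rw [show (i : T) ⊗ₜ[R] b = (i : T) • ((1 : T) ⊗ₜ[R] b) by rw [TensorProduct.smul_tmul', smul_eq_mul, mul_one]]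
      exact Submodule.smul_mem_smul i.2 trivial

end Groth.Agent.TorusLift
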