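import Groth.Agent.TorusLift.Family
import Groth.Agent.MTImage.RankSemicont
import Groth.Agent.MTImage.NhdIso
import Groth.Agent.MTImage.CartanField
import Groth.Agent.GrpDim.Flat
import Groth.Agent.Chev.LargestSA
import Groth.Agent.MTImage.Sigma
import Groth.Agent.Chev.SolvTorus

/-!
# Locally constant reductive rank and maximal tori etale-locally
-/

set_option autoImplicit false
set_option linter.style.haveILetI false
set_option backward.isDefEq.respectTransparency false
set_option maxHeartbeats 1000000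
set_option synthInstance.maxHeartbeats 400000

universe u

open CategoryTheory Limits MonoidalCategory CartesianMonoidalCategory MonObj GrpObj AlgebraicGeometry
open scoped CategoryTheory.Obj

noncomputable section

namespace Groth.Agent.TorusLift

open Groth.Agent.MTBridge Groth.Agent.Chev

variable {S : Scheme.{u}}

section Field

variable {k : Type u} [Field k] [IsAlgClosed k]

/-- Maximal tori have one dimension. -/
theorem dim_maxTori_eq {G T₁ T₂ : Over (Spec (CommRingCat.of k))} [GrpObj G] [GrpObj T₁] [GrpObj T₂] [Smooth G.hom]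
    [QuasiCompact G.hom] (i₁ : T₁ ⟶ G) (h₁ : Red.IsMaximalTorus i₁) (i₂ : T₂ ⟶ G) (h₂ : Red.IsMaximalTorus i₂) :
    topologicalKrullDim ↥T₁.left = topologicalKrullDim ↥T₂.left := by
  obtain ⟨g, φ, -⟩ := MTImage.exists_conjBy_maxTori i₁ (Borel.isMaxTorus_of_isMaximalTorus _ h₁) i₂
    (Borel.isMaxTorus_of_isMaximalTorus _ h₂)
  exact IsHomeomorph.topologicalKrullDim_eq _ (Scheme.homeoOfIso ((Over.forget _).mapIso φ)).isHomeomorph

omit [IsAlgClosed k] in
/-- Dimensions of isomorphic groups agree. -/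
theorem dim_eq_of_grpIso {H H' : Grp (Over (Spec (CommRingCat.of k)))} (e : H ≅ H') :
    topologicalKrullDim ↥H.X.left = topologicalKrullDim ↥H'.X.left :=
  IsHomeomorph.topologicalKrullDim_eq _
    (Scheme.homeoOfIso ((Over.forget _).mapIso ((Grp.forget _).mapIso e))).isHomeomorph

/-- A torus is a closed split subtorus. -/
theorem exists_split_closed {G T : Over (Spec (CommRingCat.of k))} [GrpObj G] [GrpObj T] [Smooth G.hom]
    [IsAffine G.left] (i : T ⟶ G) [IsMonHom i] [Mono i] (hT : Red.IsTorus T) :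
    ∃ (r : ℕ) (j : Red.DS (Spec (CommRingCat.of k)) (Fin r → ℤ) ⟶ G), IsMonHom j ∧ IsClosedImmersion j.left ∧
      topologicalKrullDim ↥(Red.DS (Spec (CommRingCat.of k)) (Fin r → ℤ)).left = topologicalKrullDim ↥T.left := by
  haveI : IsAffineHom G.hom := isAffineHom_of_isAffine _
  obtain ⟨r, ⟨e⟩⟩ := Borel.split_of_isTorus hT
  haveI := locallyOfFiniteType_of_isTorus hT
  haveI := isAffine_of_isTorus hT
  haveI : QuasiCompact i.left := inferInstance
  haveI : Subsingleton ↥(Spec (CommRingCat.of k)) := inferInstanceAs (Subsingleton (PrimeSpectrum k))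
  haveI : Nonempty ↥(Spec (CommRingCat.of k)) := inferInstanceAs (Nonempty (PrimeSpectrum k))
  haveI : IsClosedImmersion i.left := GrpField.isClosedImmersion_of_mono i
  haveI := e.inv.hom.isMonHom_hom
  refine ⟨r, e.inv.hom.hom ≫ i, inferInstance, ?_, (dim_eq_of_grpIso e).symm⟩
  haveI := isClosedImmersion_of_grpIso e.symm
  show IsClosedImmersion (e.symm.hom.hom.hom.left ≫ i.left)
  infer_instance

end Field

variable {G : Over S} [GrpObj G] [IsAffineHom G.hom] [Smooth G.hom]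

/-- The maximal tori of a geometric fibre. -/
theorem exists_maxTorus_of_point {K : Type u} [Field K] [IsAlgClosed K] (x : Spec (CommRingCat.of K) ⟶ S)
    {T : Over (Spec (CommRingCat.of K))} [GrpObj T] (i : T ⟶ Red.bc x G) (hi : Red.IsMaximalTorus i)
    {L : Type u} [Field L] [IsAlgClosed L] (y : Spec (CommRingCat.of L) ⟶ S)
    (h : x (IsLocalRing.closedPoint K) = y (IsLocalRing.closedPoint L)) :
    ∃ (T' : Over (Spec (CommRingCat.of L))) (_ : GrpObj T') (i' : T' ⟶ Red.bc y G),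
      Red.IsMaximalTorus i' ∧ topologicalKrullDim ↥T.left = topologicalKrullDim ↥T'.left := by
  have key : ∀ {K L : Type u} [Field K] [IsAlgClosed K] [Field L] [IsAlgClosed L]
      (x : Spec (CommRingCat.of K) ⟶ S) (y : Spec (CommRingCat.of L) ⟶ S)
      (T : Over (Spec (CommRingCat.of K))) [GrpObj T] (i : T ⟶ Red.bc x G), Red.IsMaximalTorus i →
      x (IsLocalRing.closedPoint K) = y (IsLocalRing.closedPoint L) →
      ∃ (T' : Over (Spec (CommRingCat.of L))) (_ : GrpObj T') (i' : T' ⟶ Red.bc y G),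
        Red.IsMaximalTorus i' ∧ topologicalKrullDim ↥T.left ≤ topologicalKrullDim ↥T'.left := by
    intro K L _ _ _ _ x y T _ i hi h
    haveI := hi.1; haveI := hi.2.1
    haveI : Smooth (Red.bc x G).hom := inferInstanceAs (Smooth (pullback.snd G.hom x))
    haveI : IsAffineHom (Red.bc x G).hom := inferInstanceAs (IsAffineHom (pullback.snd G.hom x))
    obtain ⟨C, _, c, hC, -, -⟩ := exists_centralizer T (Red.bc x G)
      (locally_of_isMultTypeFT' T (isMultTypeFT_of_isTorus T hi.2.2.1)) inferInstance inferInstance i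
    obtain ⟨U, hxU, hU⟩ := MTImage.exists_nhd_rank x i hi.2.2.1 c hC
    obtain ⟨T', hT', i', C', _, c', hi', -, hle, -⟩ := hU L y (h ▸ hxU)
    exact ⟨T', hT', i', hi', hle⟩
  obtain ⟨T', hT', i', hi', hle⟩ := key x y T i hi h
  obtain ⟨T'', _, i'', hi'', hle'⟩ := key y x T' i' hi' h.symm
  haveI : Smooth (Red.bc x G).hom := inferInstanceAs (Smooth (pullback.snd G.hom x))
  haveI : QuasiCompact (Red.bc x G).hom := inferInstanceAs (QuasiCompact (pullback.snd G.hom x))
  exact ⟨T', hT', i', hi', le_antisymm hle (hle'.trans_eq (dim_maxTori_eq i'' hi'' i hi))⟩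

/-- The rank bounds the subtori of the fibres. -/
theorem dim_le_of_hasRedRank {t : S} {r : WithBot ℕ∞} (hr : SGA3x.HasRedRank G t r) {L : Type u} [Field L]
    [IsAlgClosed L] (y : Spec (CommRingCat.of L) ⟶ S) (hy : y (IsLocalRing.closedPoint L) = t)
    {T : Over (Spec (CommRingCat.of L))} [GrpObj T] (i : T ⟶ Red.bc y G) [IsMonHom i] [Mono i]
    (hT : Red.IsTorus T) :
    ∃ (T' : Over (Spec (CommRingCat.of L))) (_ : GrpObj T') (i' : T' ⟶ Red.bc y G) (f : T ⟶ T'),
      Red.IsMaximalTorus i' ∧ f ≫ i' = i ∧ topologicalKrullDim ↥T'.left = r := by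
  obtain ⟨T₀, _, i₀, hi₀, hdim⟩ := hr
  obtain ⟨T₁, _, i₁, hi₁, hdim₁⟩ := exists_maxTorus_of_point (Red.geomPt t) i₀ hi₀ y
    ((MTImage.geomPt_closedPoint t).trans hy.symm)
  haveI : Smooth (Red.bc y G).hom := inferInstanceAs (Smooth (pullback.snd G.hom y))
  haveI : QuasiCompact (Red.bc y G).hom := inferInstanceAs (QuasiCompact (pullback.snd G.hom y))
  haveI : IsAffineHom (Red.bc y G).hom := inferInstanceAs (IsAffineHom (pullback.snd G.hom y))
  haveI : IsAffine (Red.bc y G).left := isAffine_of_isAffineHom (Red.bc y G).hom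
  obtain ⟨T', hT', i', f, hi', hf⟩ := MTImage.exists_maxTorus_containing i hT
  refine ⟨T', hT', i', f, Borel.isMaximalTorus_of_isMaxTorus _ hi', hf, ?_⟩
  rw [dim_maxTori_eq i' (Borel.isMaximalTorus_of_isMaxTorus _ hi') i₁ hi₁, ← hdim₁, hdim]

/-- **Maximal tori etale-locally give a locally constant rank.** -/
theorem redRankLocallyConstant_of_etale (h : SGA3x.HasMaxTorusEtaleLocally G) : SGA3x.RedRankLocallyConstant G := by
  obtain ⟨S', e, he, hes, T, _, i, hi⟩ := h
  haveI := he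
  have hMT := isMultTypeFT_of_isTorus T hi.2.2.1
  haveI := locallyOfFinitePresentation_of_isMultTypeFT T hMT
  haveI := flat_of_isMultTypeFT T hMT
  intro s
  obtain ⟨s', rfl⟩ := hes.surj s
  let d := fun t : S' => topologicalKrullDim ↥(T.hom ⁻¹' {t})
  obtain ⟨U', hU', hsU', hd⟩ := (IsLocallyConstant.iff_exists_open d).1 (GrpDim.isLocallyConstant_dim T) s'
  have hopen : IsOpen (e.base '' U') := e.isOpenMap _ hU'
  refine ⟨⟨_, hopen⟩, ⟨s', hsU', rfl⟩, d s', fun t ht => ?_⟩
  obtain ⟨t', ht', rfl⟩ := ht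
  let K := AlgebraicClosure (S'.residueField t')
  let y : Spec (CommRingCat.of K) ⟶ S := Red.geomPt t' ≫ e
  have hy : y (IsLocalRing.closedPoint K) = e t' := by
    rw [Scheme.Hom.comp_apply, MTImage.geomPt_closedPoint]
  -- the maximal torus of the fibre
  let iK := (Over.pullback (Red.geomPt t')).map i
  haveI := hi.1; haveI := hi.2.1
  haveI : PreservesLimitsOfShape WalkingCospan (Over.pullback (Red.geomPt t')) :=
    (Adjunction.rightAdjoint_preservesLimits (Over.mapPullbackAdj (Red.geomPt t'))).preservesLimitsOfShape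
  have hTK : Red.IsTorus (Red.bc (Red.geomPt t') T) := Borel.isTorus_bc_scheme T _ hi.2.2.1
  have hmax : AGF.IsMaxTorus iK :=
    ⟨inferInstance, inferInstance, hTK, fun T' _ j _ _ f hT' hf => hi.2.2.2 t' T' j f hT' hf⟩
  let eG : Red.bc (Red.geomPt t') (Red.bc e G) ≅ Red.bc y G :=
    ((Grp.forget _).mapIso (bcComp e (Red.geomPt t') G)).symm
  haveI : IsMonHom eG.hom := (bcComp e (Red.geomPt t') G).inv.hom.isMonHom_hom
  haveI : IsMonHom (Iso.refl (Red.bc (Red.geomPt t') T)).hom := inferInstanceAs (IsMonHom (𝟙 _))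
  have hmax' : Red.IsMaximalTorus (iK ≫ eG.hom) :=
    MTImage.isMaximalTorus_iso (Iso.refl _) eG iK (iK ≫ eG.hom) (by rw [Iso.refl_hom, Category.id_comp]) hTK
      (Borel.isMaximalTorus_of_isMaxTorus _ hmax)
  obtain ⟨T', _, i', hi', hdim⟩ := exists_maxTorus_of_point y _ hmax' (Red.geomPt (e t'))
    (hy.trans (MTImage.geomPt_closedPoint _).symm)
  refine ⟨T', inferInstance, i', hi', ?_⟩
  rw [← hdim, MTImage.dim_geomFibre]
  exact hd t' ht'

/-- A split subtorus of full rank in every fibre is a maximal torus. -/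
theorem isMaximalTorus_of_dim {S' : Scheme.{u}} (e : S' ⟶ S) {r : ℕ}
    (j : Red.DS S' (Fin r → ℤ) ⟶ Red.bc e G) [IsMonHom j] [IsClosedImmersion j.left]
    (hrank : ∀ w : S', SGA3x.HasRedRank G (e w)
      (topologicalKrullDim ↥((Red.DS S' (Fin r → ℤ)).hom ⁻¹' {w}))) : Red.IsMaximalTorus j := by
  haveI : Mono j.left := inferInstance
  haveI : Mono j := Over.mono_of_mono_left j
  have hT : Red.IsTorus (Red.DS S' (Fin r → ℤ)) :=
    ⟨S', 𝟙 _, inferInstance, inferInstance, fun V hV => ⟨V, hV.isCompact, by simp⟩,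
      fun s' => ⟨⊤, trivial, r, ⟨bcDS _ _⟩⟩⟩
  refine ⟨inferInstance, inferInstance, hT, fun w T' _ j' _ _ f hT' hf => ?_⟩
  let K := AlgebraicClosure (S'.residueField w)
  let D := Red.bc (Red.geomPt w) (Red.DS S' (Fin r → ℤ))
  let y : Spec (CommRingCat.of K) ⟶ S := Red.geomPt w ≫ e
  let eG : Red.bc (Red.geomPt w) (Red.bc e G) ≅ Red.bc y G :=
    ((Grp.forget _).mapIso (bcComp e (Red.geomPt w) G)).symm
  haveI : IsMonHom eG.hom := (bcComp e (Red.geomPt w) G).inv.hom.isMonHom_hom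
  haveI : Mono (j' ≫ eG.hom) := mono_comp _ _
  obtain ⟨T'', _, i'', g, hi'', hg, hdim⟩ := dim_le_of_hasRedRank (hrank w) y
    (by rw [Scheme.Hom.comp_apply, MTImage.geomPt_closedPoint]) (j' ≫ eG.hom) hT'
  have hDtor : Red.IsTorus D := Borel.isTorus_bc_scheme _ _ hT
  haveI : IsMonHom ((Over.pullback (Red.geomPt w)).map j) := inferInstance
  haveI : IsMonHom f := MTSplit.isMonHom_of_comp_mono f j' _ hf
  haveI : IsClosedImmersion ((Over.pullback (Red.geomPt w)).map j).left :=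
    MorphismProperty.of_isPullback (P := @IsClosedImmersion) (MTImage.isPullback_map j _) ‹IsClosedImmersion j.left›
  haveI : Smooth (Red.bc y G).hom := inferInstanceAs (Smooth (pullback.snd G.hom y))
  haveI : IsAffineHom (Red.bc e G).hom := MorphismProperty.pullback_snd (P := @IsAffineHom) G.hom e ‹_›
  haveI : IsAffineHom (Red.bc (Red.geomPt w) (Red.bc e G)).hom :=
    MorphismProperty.pullback_snd (P := @IsAffineHom) _ _ ‹IsAffineHom (Red.bc e G).hom›
  haveI := locallyOfFiniteType_of_isTorus hT'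
  haveI := isAffine_of_isTorus hT'
  haveI : IsSeparated j'.left := inferInstance
  haveI : IsClosedImmersion (f.left ≫ j'.left) := by
    rw [← Over.comp_left, show f ≫ j' = _ from hf]; infer_instance
  haveI : IsClosedImmersion f.left := IsClosedImmersion.of_comp f.left j'.left
  haveI := smooth_of_isTorus hDtor; haveI := connectedSpace_of_isTorus hDtor
  haveI := smooth_of_isTorus hT'; haveI := connectedSpace_of_isTorus hT'
  haveI := isAffine_of_isTorus hDtor
  haveI := hi''.1; haveI := hi''.2.1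
  haveI := locallyOfFiniteType_of_isTorus hi''.2.2.1
  haveI := isAffine_of_isTorus hi''.2.2.1
  haveI : Subsingleton ↥(Spec (CommRingCat.of K)) := inferInstanceAs (Subsingleton (PrimeSpectrum K))
  haveI : Nonempty ↥(Spec (CommRingCat.of K)) := inferInstanceAs (Nonempty (PrimeSpectrum K))
  haveI : IsMonHom g := MTSplit.isMonHom_of_comp_mono g i'' _ hg
  haveI : Mono (g ≫ i'') := by rw [hg]; infer_instance
  haveI : Mono g := mono_of_mono g i''
  haveI : IsClosedImmersion g.left := GrpField.isClosedImmersion_of_mono g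
  have h1 : topologicalKrullDim ↥T'.left ≤ topologicalKrullDim ↥T''.left :=
    g.left.isClosedEmbedding.isInducing.topologicalKrullDim_le
  have h2 : topologicalKrullDim ↥D.left ≤ topologicalKrullDim ↥T'.left :=
    f.left.isClosedEmbedding.isInducing.topologicalKrullDim_le
  have h3 : topologicalKrullDim ↥D.left = topologicalKrullDim ↥((Red.DS S' (Fin r → ℤ)).hom ⁻¹' {w}) := by
    haveI := locallyOfFinitePresentation_of_isMultTypeFT _ (MTTorus.isMultTypeFT_DS S' (Fin r → ℤ))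
    exact MTImage.dim_geomFibre _ w
  rw [hdim, ← h3] at h1
  exact Chev.isIso_of_dim_eq f (le_antisymm h2 h1)

/-- **A locally constant rank gives maximal tori etale-locally**, near a point. -/
theorem exists_etale_maxTorus (hr : SGA3x.RedRankLocallyConstant G) (s : S) :
    ∃ (S' : Scheme.{u}) (e : S' ⟶ S) (r : ℕ) (j : Red.DS S' (Fin r → ℤ) ⟶ Red.bc e G),
      Etale e ∧ s ∈ Set.range e.base ∧ Red.IsMaximalTorus j := by
  obtain ⟨U, hsU, rk, hU⟩ := hr s
  obtain ⟨_, ⟨V, hV, rfl⟩, hsV, hVU⟩ := S.isBasis_affineOpens.exists_subset_of_mem_open hsU U.2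
  let GV := Red.bc hV.fromSpec G
  haveI : Smooth GV.hom := inferInstanceAs (Smooth (pullback.snd G.hom hV.fromSpec))
  haveI : IsAffineHom GV.hom := inferInstanceAs (IsAffineHom (pullback.snd G.hom hV.fromSpec))
  obtain ⟨v, hv⟩ : s ∈ Set.range hV.fromSpec.base := by rw [hV.range_fromSpec]; exact hsV
  let K := AlgebraicClosure ((Spec Γ(S, V)).residueField v)
  let y : Spec (CommRingCat.of K) ⟶ S := Red.geomPt v ≫ hV.fromSpec
  have hy : y (IsLocalRing.closedPoint K) = s := by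
    rw [Scheme.Hom.comp_apply, MTImage.geomPt_closedPoint]; exact hv
  obtain ⟨T₀, _, i₀, hi₀, hdim⟩ := hU s hsU
  obtain ⟨T, _, i, hi, hdimT⟩ := exists_maxTorus_of_point (Red.geomPt s) i₀ hi₀ y
    ((MTImage.geomPt_closedPoint s).trans hy.symm)
  let eG : Red.bc y G ≅ Red.bc (Red.geomPt v) GV := (Grp.forget _).mapIso (bcComp hV.fromSpec (Red.geomPt v) G)
  haveI : IsMonHom eG.hom := (bcComp hV.fromSpec (Red.geomPt v) G).hom.hom.isMonHom_hom
  haveI := hi.1; haveI := hi.2.1
  haveI : Mono (i ≫ eG.hom) := mono_comp _ _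
  haveI : Smooth (Red.bc (Red.geomPt v) GV).hom := inferInstanceAs (Smooth (pullback.snd GV.hom _))
  haveI : IsAffineHom (Red.bc (Red.geomPt v) GV).hom := inferInstanceAs (IsAffineHom (pullback.snd GV.hom _))
  haveI : IsAffine (Red.bc (Red.geomPt v) GV).left := isAffine_of_isAffineHom (Red.bc (Red.geomPt v) GV).hom
  obtain ⟨r, jK, hjm, hjc, hjd⟩ := exists_split_closed (i ≫ eG.hom) hi.2.2.1
  obtain ⟨S₁, e₁, j₁, he₁, hv₁, hj₁m, hj₁c⟩ := exists_etale_subtorus_affine (R := Γ(S, V)) GV v r jK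
  obtain ⟨v₁, hv₁⟩ := hv₁
  let e₂ : S₁ ⟶ S := e₁ ≫ hV.fromSpec
  haveI := he₁; haveI := hj₁m; haveI := hj₁c
  haveI := locallyOfFinitePresentation_of_isMultTypeFT _ (MTTorus.isMultTypeFT_DS S (Fin r → ℤ))
  haveI := flat_of_isMultTypeFT _ (MTTorus.isMultTypeFT_DS S (Fin r → ℤ))
  let d := fun t : S => topologicalKrullDim ↥((Red.DS S (Fin r → ℤ)).hom ⁻¹' {t})
  obtain ⟨U₂, hU₂, hsU₂, hd⟩ := (IsLocallyConstant.iff_exists_open d).1 (GrpDim.isLocallyConstant_dim (Red.DS S (Fin r → ℤ))) s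
  let W : S₁.Opens := e₂ ⁻¹ᵁ (U ⊓ ⟨U₂, hU₂⟩)
  have hv₁W : v₁ ∈ W := by
    show e₂ v₁ ∈ U ⊓ (⟨U₂, hU₂⟩ : S.Opens)
    rw [Scheme.Hom.comp_apply, hv₁, hv]
    exact ⟨hsU, hsU₂⟩
  let eW : (W : Scheme.{u}) ⟶ S := W.ι ≫ e₂
  haveI : Etale eW := inferInstance
  let j₂ := (bcDS W.ι (Fin r → ℤ)).inv ≫ (Over.pullback W.ι).mapGrp.map (Grp.homMk j₁ :
      Grp.mk (Red.DS S₁ (Fin r → ℤ)) ⟶ Grp.mk (Red.bc e₁ GV)) ≫
    (bcMapIso W.ι (bcComp hV.fromSpec e₁ G)).inv ≫ (bcComp e₂ W.ι G).inv
  haveI : IsMonHom j₂.hom.hom := j₂.hom.isMonHom_hom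
  haveI : IsClosedImmersion j₂.hom.hom.left := by
    haveI := isClosedImmersion_of_grpIso (bcDS W.ι (Fin r → ℤ)).symm
    haveI := isClosedImmersion_of_grpIso (bcMapIso W.ι (bcComp hV.fromSpec e₁ G)).symm
    haveI := isClosedImmersion_of_grpIso (bcComp e₂ W.ι G).symm
    haveI : IsClosedImmersion ((Over.pullback W.ι).map j₁).left :=
      MorphismProperty.of_isPullback (P := @IsClosedImmersion) (MTImage.isPullback_map j₁ W.ι) hj₁c
    show IsClosedImmersion ((bcDS W.ι (Fin r → ℤ)).symm.hom.hom.hom.left ≫ ((Over.pullback W.ι).map j₁).left ≫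
      (bcMapIso W.ι (bcComp hV.fromSpec e₁ G)).symm.hom.hom.hom.left ≫ (bcComp e₂ W.ι G).symm.hom.hom.hom.left)
    infer_instance
  refine ⟨W, eW, r, j₂.hom.hom, inferInstance, ⟨⟨v₁, hv₁W⟩, ?_⟩, isMaximalTorus_of_dim eW _ fun w => ?_⟩
  · show e₂ v₁ = s
    rw [Scheme.Hom.comp_apply, hv₁, hv]
  · obtain ⟨hwU, hwU₂⟩ : eW w ∈ U ∧ eW w ∈ U₂ := w.2
    haveI := locallyOfFinitePresentation_of_isMultTypeFT _
      (MTTorus.isMultTypeFT_DS (W : Scheme.{u}) (Fin r → ℤ))
    have h : topologicalKrullDim ↥((Red.DS (W : Scheme.{u}) (Fin r → ℤ)).hom ⁻¹' {w}) = rk := by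
      rw [← MTImage.dim_geomFibre _ w,
        dim_eq_of_grpIso (bcDS (Red.geomPt w) (Fin r → ℤ)),
        MTImage.dim_DS_point (Red.geomPt w ≫ eW) r, Scheme.Hom.comp_apply, MTImage.geomPt_closedPoint]
      rw [show topologicalKrullDim ↥((Red.DS S (Fin r → ℤ)).hom ⁻¹' {eW w}) = _ from hd (eW w) hwU₂]
      rw [← hdim, hdimT, ← hjd, MTImage.dim_DS_point y r, hy]
    exact h.symm ▸ hU (eW w) hwU

/-- **A locally constant rank gives maximal tori etale-locally.** -/
theorem hasMaxTorusEtaleLocally (hr : SGA3x.RedRankLocallyConstant G) : SGA3x.HasMaxTorusEtaleLocally G := by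
  choose X e r j he hse hj using exists_etale_maxTorus hr
  obtain ⟨T, hT, t, ht⟩ := MTImage.exists_maxTorus_sigma e fun s => ⟨_, inferInstance, j s, hj s⟩
  refine ⟨∐ X, Sigma.desc e, IsZariskiLocalAtSource.sigmaDesc (P := @Etale) he, ⟨fun s => ?_⟩, T, hT, t, ht⟩
  obtain ⟨x, hx⟩ := hse s
  exact ⟨Sigma.ι X s x, by rw [← Scheme.Hom.comp_apply, Sigma.ι_desc]; exact hx⟩

end Groth.Agent.TorusLift
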