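import Groth.Agent.TorusLift.Bounded

/-!
# Weights and bialgebra maps
-/

set_option autoImplicit false
set_option linter.style.haveILetI false
set_option backward.isDefEq.respectTransparency false
set_option maxHeartbeats 800000

universe u

open TensorProduct

noncomputable section

namespace Groth.Agent.TorusLift

variable {R A : Type u} [CommRing R] [CommRing A] [HopfAlgebra R A] {M : Type u} [CommGroup M] {T : Type u}
  [CommRing T] [Algebra R T]

/-- Coordinates of a pair of values. -/
theorem cc_map_map (φ : T ⊗[R] A →ₐ[T] MonoidAlgebra T M) (m n : M) (z : A ⊗[R] A) :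
    cc m n (Algebra.TensorProduct.map φ φ
      (TensorProduct.AlgebraTensorModule.distribBaseChange R T A A ((1 : T) ⊗ₜ[R] z))) =
      coef₂ ((φ.restrictScalars R).comp Algebra.TensorProduct.includeRight) m n z := by
  induction z using TensorProduct.induction_on with
  | zero => simp
  | add a b ha hb => simp only [TensorProduct.tmul_add, map_add, ha, hb]
  | tmul a b =>
    rw [TensorProduct.AlgebraTensorModule.distribBaseChange_tmul, Algebra.TensorProduct.map_tmul, cc_tmul,
      coef₂_tmul]
    rfl

omit [CommGroup M] in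
/-- The counit of Laurent polynomials is the sum of the coefficients. -/
theorem sum_coeff_eq_counit (p : MonoidAlgebra T M) :
    p.coeff.sum (fun _ c => c) = Coalgebra.counit (R := T) p := by
  induction p using MonoidAlgebra.induction_linear with
  | zero => simp
  | add a b ha hb =>
    rw [map_add, MonoidAlgebra.coeff_add, Finsupp.sum_add_index' (fun _ => rfl) fun _ _ _ => rfl, ha, hb]
  | single k t => simp

/-- A bialgebra map into Laurent polynomials gives weights. -/
theorem isGH_of_bialgHom (φ : T ⊗[R] A →ₐc[T] MonoidAlgebra T M) :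
    IsGH (((φ : T ⊗[R] A →ₐ[T] MonoidAlgebra T M).restrictScalars R).comp
      Algebra.TensorProduct.includeRight) := by
  have hc : ∀ (x : A) (m n : M),
      coef₂ (((φ : T ⊗[R] A →ₐ[T] MonoidAlgebra T M).restrictScalars R).comp Algebra.TensorProduct.includeRight) m n
        (Coalgebra.comul x) = cc m n (Coalgebra.comul (R := T) (φ ((1 : T) ⊗ₜ[R] x))) := fun x m n => by
    rw [← cc_map_map, ← CoalgHomClass.map_comp_comul_apply φ, MultT.comul_eq_distrib, LinearMap.baseChange_tmul]
    rfl
  refine ⟨fun x m => by rw [hc, (cc_comul m m _).1 rfl]; rfl,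
    fun x m n e => by rw [hc, (cc_comul m n _).2 e], fun x => ?_⟩
  show (φ ((1 : T) ⊗ₜ[R] x)).coeff.sum (fun _ c => c) = _
  rw [sum_coeff_eq_counit, CoalgHomClass.counit_comp_apply φ, TensorProduct.counit_tmul, CommSemiring.counit_apply,
    Algebra.algebraMap_eq_smul_one]

/-- Weights give a bialgebra map, surjective when the values generate. -/
theorem exists_bialgHom_of_isGH {v : A →ₐ[R] MonoidAlgebra T M} (h : IsGH v)
    (hgen : Algebra.adjoin T (Set.range v) = ⊤) :
    ∃ φ : T ⊗[R] A →ₐc[T] MonoidAlgebra T M, Function.Surjective φ := by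
  let φ : T ⊗[R] A →ₐ[T] MonoidAlgebra T M :=
    Algebra.TensorProduct.lift (Algebra.ofId T _) v fun _ _ => Commute.all _ _
  have hφ : ∀ x, φ ((1 : T) ⊗ₜ[R] x) = v x := fun x => by simp [φ, ← MonoidAlgebra.one_def]
  have hφv : (φ.restrictScalars R).comp Algebra.TensorProduct.includeRight = v := AlgHom.ext hφ
  refine ⟨BialgHom.ofAlgHom φ ?_ ?_, fun p => ?_⟩
  · refine Algebra.TensorProduct.ext (Subsingleton.elim _ _) (AlgHom.ext fun x => ?_)
    · show Coalgebra.counit (R := T) (φ ((1 : T) ⊗ₜ[R] x)) = Coalgebra.counit (R := T) ((1 : T) ⊗ₜ[R] x)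
      rw [← sum_coeff_eq_counit, hφ, h.counit, TensorProduct.counit_tmul, CommSemiring.counit_apply,
        Algebra.algebraMap_eq_smul_one]
  · refine Algebra.TensorProduct.ext (Subsingleton.elim _ _) (AlgHom.ext fun x => ?_)
    · show Algebra.TensorProduct.map φ φ (Coalgebra.comul (R := T) ((1 : T) ⊗ₜ[R] x)) =
        Coalgebra.comul (R := T) (φ ((1 : T) ⊗ₜ[R] x))
      rw [← sub_eq_zero, ← Ideal.mem_bot,
        ← Ideal.map_bot (f := algebraMap T (MonoidAlgebra T M ⊗[T] MonoidAlgebra T M))]
      refine mem_map_of_cc _ fun m n => Ideal.mem_bot.2 ?_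
      rw [map_sub, MultT.comul_eq_distrib, LinearMap.baseChange_tmul, cc_map_map, hφv, hφ, sub_eq_zero]
      by_cases e : m = n
      · subst e; rw [h.comul, (cc_comul m m _).1 rfl]; rfl
      · rw [h.comul_ne _ _ _ e, (cc_comul m n _).2 e]
  · have hle : Algebra.adjoin T (Set.range v) ≤ φ.range := Algebra.adjoin_le (by
      rintro _ ⟨x, rfl⟩
      exact ⟨(1 : T) ⊗ₜ[R] x, hφ x⟩)
    exact hle (hgen ▸ Algebra.mem_top)

/-- Generation is stable under change of scalars. -/
theorem adjoin_range_mapT {T' : Type u} [CommRing T'] [Algebra R T'] (f : T →ₐ[R] T')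
    {v : A →ₐ[R] MonoidAlgebra T M} (hgen : Algebra.adjoin T (Set.range v) = ⊤) :
    Algebra.adjoin T' (Set.range (mapT f v)) = ⊤ := by
  have key : ∀ p ∈ Algebra.adjoin T (Set.range v),
      MonoidAlgebra.mapAlgHom M f p ∈ Algebra.adjoin T' (Set.range (mapT f v)) := fun p hp => by
    induction hp using Algebra.adjoin_induction with
    | mem x hx => obtain ⟨y, rfl⟩ := hx; exact Algebra.subset_adjoin ⟨y, rfl⟩
    | algebraMap r =>
      rw [show MonoidAlgebra.mapAlgHom M f (algebraMap T (MonoidAlgebra T M) r) = algebraMap T' _ (f r) by simp]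
      exact Subalgebra.algebraMap_mem _ _
    | add a b _ _ ha hb => rw [map_add]; exact add_mem ha hb
    | mul a b _ _ ha hb => rw [map_mul]; exact mul_mem ha hb
  refine eq_top_iff.2 fun p _ => ?_
  rw [← MonoidAlgebra.sum_coeff_single p]
  refine Subalgebra.sum_mem _ fun m _ => ?_
  rw [show MonoidAlgebra.single m (p.coeff m) =
    p.coeff m • MonoidAlgebra.mapAlgHom M f (MonoidAlgebra.single m (1 : T)) by simp]
  exact Subalgebra.smul_mem _ (key _ (by rw [hgen]; trivial)) _

end Groth.Agent.TorusLift
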