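import Groth.Agent.S6085
import Groth.Agent.LimModel.FgSubalgebra
import Groth.Agent.LimMore.OverBase
import Groth.Agent.LimMore.Smooth
import Groth.Agent.LimDesc.DescendAffine
import Groth.Agent.MTBridge.Basic
import Groth.Prelude.Def_SGA3x

/-!
# Models of affine smooth groups over noetherian rings
-/

set_option autoImplicit false
set_option linter.style.haveILetI false
set_option backward.isDefEq.respectTransparency false
set_option maxHeartbeats 800000

universe u

open CategoryTheory CategoryTheory.Limits MonoidalCategory CartesianMonoidalCategory AlgebraicGeometry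
open Groth.Agent.LimDesc

noncomputable section

namespace Groth.Agent.TorusLift

/-- **An affine smooth group comes from a Hopf algebra smooth over a noetherian ring.** -/
theorem exists_model {R : Type u} [CommRing R] (G : Over (Spec (CommRingCat.of R))) [GrpObj G]
    [IsAffineHom G.hom] [Smooth G.hom] :
    ∃ (R₀ A : Type u) (_ : CommRing R₀) (_ : IsNoetherianRing R₀) (_ : Algebra R₀ R) (_ : CommRing A)
      (_ : HopfAlgebra R₀ A), Algebra.Smooth R₀ A ∧ Nonempty (Grp.mk G ≅
        Grp.mk (Red.bc (Spec.map (CommRingCat.ofHom (algebraMap R₀ R)))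
          ((Spec (CommRingCat.of A)).asOver (Spec (CommRingCat.of R₀))))) := by
  let D := LimModel.fgDiagram R
  let c := LimModel.fgCone R
  let hc := LimModel.fgIsLimit R
  haveI : IsCofiltered (LimModel.FgSub R)ᵒᵖ := isCofiltered_op_of_isFiltered _
  haveI : ∀ {i j : (LimModel.FgSub R)ᵒᵖ} (f : i ⟶ j), IsAffineHom (D.map f) := fun f =>
    inferInstanceAs (IsAffineHom ((LimModel.fgDiagram R).map f))
  haveI : ∀ i : (LimModel.FgSub R)ᵒᵖ, IsAffine (D.obj i) := fun i => inferInstanceAs (IsAffine (Spec _))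
  let G' : Over c.pt := G
  letI : GrpObj G' := ‹GrpObj G›
  haveI : IsAffineHom G'.hom := ‹IsAffineHom G.hom›
  haveI : Smooth G'.hom := ‹Smooth G.hom›
  obtain ⟨i, Gi, _, e, he, hfp, hqc, hqs⟩ := S6085.result D c hc G'
  haveI := he; haveI := hfp; haveI := hqc; haveI := hqs
  haveI : CompactSpace Gi.left := QuasiCompact.compactSpace_of_compactSpace Gi.hom
  haveI : IsIso e.hom.left := inferInstanceAs (IsIso ((Over.forget _).map e.hom))
  have hpb : IsPullback (e.hom.left ≫ pullback.fst Gi.hom (c.π.app i)) G'.hom Gi.hom (c.π.app i) :=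
    IsPullback.of_iso (IsPullback.of_hasPullback Gi.hom (c.π.app i)) ((Over.forget _).mapIso e).symm (Iso.refl _)
      (Iso.refl _) (Iso.refl _) (by simp) (by simp) (by simp) (by simp)
  obtain ⟨j₁, hj₁⟩ := LimDesc.exists_isAffineHom D c hc Gi.hom (𝟙 _) (LimMore.isPullback_id D c) hpb
  obtain ⟨j₂, hj₂⟩ := LimMore.exists_smooth D c hc Gi.hom (𝟙 _) (LimMore.isPullback_id D c) hpb
  obtain ⟨l, e₁, e₂, -⟩ := IsCofilteredOrEmpty.cone_objs j₁ j₂
  have ha : IsAffineHom (Red.bc (D.map l.hom) Gi).hom := (LimMore.stageMap_id_iff D Gi.hom @IsAffineHom l).1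
    (MorphismProperty.of_isPullback (P := @IsAffineHom) (isPullback_trans_stageMap D (𝟙 _) Gi.hom e₁) hj₁)
  have hs : Smooth (Red.bc (D.map l.hom) Gi).hom := (LimMore.stageMap_id_iff D Gi.hom @Smooth l).1
    (MorphismProperty.of_isPullback (P := @Smooth) (isPullback_trans_stageMap D (𝟙 _) Gi.hom e₂) hj₂)
  let Gl : Over (Spec (CommRingCat.of ↥(l.left.unop.1))) := Red.bc (D.map l.hom) Gi
  letI : GrpObj Gl := Red.grpObj_bc (D.map l.hom) Gi
  haveI : IsAffineHom Gl.hom := ha
  haveI : Smooth Gl.hom := hs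
  haveI : IsAffine Gl.left := isAffine_of_isAffineHom Gl.hom
  obtain ⟨A, hA, ε, hε⟩ := FinHopf.exists_hopf (R := CommRingCat.of ↥(l.left.unop.1)) Gl
  haveI := hε
  haveI : IsIso ε.hom.left := inferInstanceAs (IsIso ((Over.forget _).map ε.hom))
  have hAsm : Smooth (Spec.map (CommRingCat.ofHom (algebraMap ↥(l.left.unop.1) A))) := by
    have h : ε.hom.left ≫ Gl.hom = Spec.map (CommRingCat.ofHom (algebraMap ↥(l.left.unop.1) A)) := Over.w ε.hom
    rw [← h]
    infer_instance
  rw [HasRingHomProperty.Spec_iff (P := @Smooth)] at hAsm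
  have hno : IsNoetherianRing ↥(l.left.unop.1) := Algebra.FiniteType.isNoetherianRing ℤ _
    (h := l.left.unop.1.fg_iff_finiteType.mp l.left.unop.2)
  refine ⟨↥(l.left.unop.1), A, inferInstance, hno, inferInstance, inferInstance, hA,
    RingHom.smooth_algebraMap.1 hAsm, ⟨?_⟩⟩
  let i₁ : Grp.mk G ≅ Grp.mk (Red.bc (c.π.app i) Gi) := Grp.mkIso' e
  let i₂ : Grp.mk (Red.bc (c.π.app i) Gi) ≅ Grp.mk (Red.bc (c.π.app l.left) (Red.bc (D.map l.hom) Gi)) :=
    MTBridge.bcCongr (c.w l.hom).symm Gi ≪≫ MTBridge.bcComp (D.map l.hom) (c.π.app l.left) Gi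
  letI : HopfAlgebra ↥(l.left.unop.1) A := hA
  let i₃ : Grp.mk Gl ≅ MTBridge.specGrp ↥(l.left.unop.1) A := (Grp.mkIso' ε).symm
  exact i₁ ≪≫ i₂ ≪≫ (Over.pullback (c.π.app l.left)).mapGrp.mapIso i₃

end Groth.Agent.TorusLift
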