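import Groth.Agent.TorusLift.Point
import Groth.Agent.TorusLift.Bridge
import Groth.Agent.TorusLift.Model
import Groth.Agent.MTBridge.EtaleConj
import Groth.Agent.MTBridge.Hom
import Groth.Agent.MTImage.RankSemicont

/-!
# Split subtori of geometric fibres spread to etale neighbourhoods
-/

set_option autoImplicit false
set_option linter.style.haveILetI false
set_option backward.isDefEq.respectTransparency false
set_option maxHeartbeats 1000000
set_option synthInstance.maxHeartbeats 400000

universe u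

open CategoryTheory Limits MonoidalCategory CartesianMonoidalCategory AlgebraicGeometry TensorProduct
open scoped CategoryTheory.Obj MonObj

noncomputable section

namespace Groth.Agent.TorusLift

open Groth.Agent.MTBridge

/-- The characters of the split torus in the working universe. -/
abbrev MU (r : ℕ) : Type u := ULift.{u} (Multiplicative (Fin r → ℤ))

/-- The split torus as a spectrum. -/
theorem nonempty_DS_isoU (K : Type u) [CommRing K] (r : ℕ) :
    Nonempty (Grp.mk (Red.DS (Spec (CommRingCat.of K)) (Fin r → ℤ)) ≅ specGrp K (MonoidAlgebra K (MU r))) := by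
  obtain ⟨e⟩ := nonempty_DS_iso K (Fin r → ℤ)
  obtain ⟨e'⟩ := nonempty_specGrp_iso (R := K)
    (MonoidAlgebra.domCongrBialgEquiv K K (MulEquiv.ulift (α := Multiplicative (Fin r → ℤ))))
  exact ⟨e ≪≫ e'⟩

/-- An isomorphism of groups is a closed immersion on spaces. -/
theorem isClosedImmersion_of_grpIso {S : Scheme.{u}} {H H' : Grp (Over S)} (e : H ≅ H') :
    IsClosedImmersion e.hom.hom.hom.left := by
  haveI : IsIso e.hom.hom.hom.left :=
    inferInstanceAs (IsIso ((Over.forget _).map ((Grp.forget _).map e.hom)))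
  infer_instance

/-- The model of the group over another base. -/
theorem nonempty_bc_model {R : Type u} [CommRing R] (G : Over (Spec (CommRingCat.of R))) [GrpObj G]
    {R₀ A : Type u} [CommRing R₀] [Algebra R₀ R] [CommRing A] [HopfAlgebra R₀ A]
    (e : Grp.mk G ≅ Grp.mk (Red.bc (Spec.map (CommRingCat.ofHom (algebraMap R₀ R))) (specGrp R₀ A).X))
    {L : Type u} [CommRing L] [Algebra R₀ L] (g : Spec (CommRingCat.of L) ⟶ Spec (CommRingCat.of R))
    (hg : g ≫ Spec.map (CommRingCat.ofHom (algebraMap R₀ R)) = Spec.map (CommRingCat.ofHom (algebraMap R₀ L))) :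
    Nonempty (Grp.mk (Red.bc g G) ≅ specGrp L (L ⊗[R₀] A)) := by
  obtain ⟨e'⟩ := nonempty_bc_specGrp R₀ L A
  exact ⟨bcMapIso g e ≪≫ (bcComp (Spec.map (CommRingCat.ofHom (algebraMap R₀ R))) g (specGrp R₀ A).X).symm ≪≫
    bcCongr hg _ ≪≫ e'⟩

/-- **A split subtorus of a geometric fibre spreads to an etale neighbourhood**, over an affine base. -/
theorem exists_etale_subtorus_affine {R : Type u} [CommRing R] (G : Over (Spec (CommRingCat.of R))) [GrpObj G]
    [IsAffineHom G.hom] [Smooth G.hom] (s : ↥(Spec (CommRingCat.of R))) (r : ℕ)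
    (i : Red.DS (Spec (CommRingCat.of (AlgebraicClosure ((Spec (CommRingCat.of R)).residueField s)))) (Fin r → ℤ) ⟶
      Red.geomFibre s G) [IsMonHom i] [IsClosedImmersion i.left] :
    ∃ (S' : Scheme.{u}) (e : S' ⟶ Spec (CommRingCat.of R)) (j : Red.DS S' (Fin r → ℤ) ⟶ Red.bc e G),
      Etale e ∧ s ∈ Set.range e.base ∧ IsMonHom j ∧ IsClosedImmersion j.left := by
  obtain ⟨R₀, A, _, _, _, _, _, hA, ⟨eG⟩⟩ := exists_model G
  let K := AlgebraicClosure ((Spec (CommRingCat.of R)).residueField s)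
  let θ : R →+* K := (Spec.preimage (Red.geomPt s)).hom
  letI : Algebra R K := θ.toAlgebra
  have hθ : Spec.map (CommRingCat.ofHom (algebraMap R K)) = Red.geomPt s := Spec.map_preimage _
  letI : Algebra R₀ K := Algebra.compHom K (algebraMap R₀ R)
  haveI : IsScalarTower R₀ R K := .of_algebraMap_eq fun _ => rfl
  have hcomp : Red.geomPt s ≫ Spec.map (CommRingCat.ofHom (algebraMap R₀ R)) =
      Spec.map (CommRingCat.ofHom (algebraMap R₀ K)) := by
    rw [← hθ, ← Spec.map_comp]; rfl
  obtain ⟨εK⟩ := nonempty_bc_model G eG (L := K) (Red.geomPt s) hcomp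
  obtain ⟨δK⟩ := nonempty_DS_isoU K r
  let q := δK.inv ≫ (Grp.homMk i : Grp.mk (Red.DS (Spec (CommRingCat.of K)) (Fin r → ℤ)) ⟶ Grp.mk (Red.bc (Red.geomPt s) G)) ≫ εK.hom
  haveI : IsClosedImmersion q.hom.hom.left := by
    haveI := isClosedImmersion_of_grpIso δK.symm
    haveI := isClosedImmersion_of_grpIso εK
    show IsClosedImmersion (δK.symm.hom.hom.hom.left ≫ i.left ≫ εK.hom.hom.hom.left)
    infer_instance
  obtain ⟨φ, hφ⟩ := exists_bialgHom (R := K) q.hom.hom
  have hsurj : Function.Surjective φ := by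
    have h : IsClosedImmersion (Spec.map (CommRingCat.ofHom (φ : K ⊗[R₀] A →ₐ[K] MonoidAlgebra K (MU r)).toRingHom)) :=
      hφ ▸ inferInstanceAs (IsClosedImmersion q.hom.hom.left)
    let ψ : CommRingCat.of (K ⊗[R₀] A) ⟶ CommRingCat.of (MonoidAlgebra K (MU r)) :=
      CommRingCat.ofHom (φ : K ⊗[R₀] A →ₐ[K] MonoidAlgebra K (MU r)).toRingHom
    haveI : IsClosedImmersion (Spec.map ψ) := h
    have h' := (IsClosedImmersion.isAffine_surjective_of_isAffine (Spec.map ψ)).2
    intro c
    obtain ⟨a, ha⟩ := h' ((Scheme.ΓSpecIso _).inv c)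
    refine ⟨(Scheme.ΓSpecIso (CommRingCat.of (K ⊗[R₀] A))).hom a, ?_⟩
    show ψ ((Scheme.ΓSpecIso _).hom a) = c
    rw [← CommRingCat.comp_apply, ← Scheme.ΓSpecIso_naturality, CommRingCat.comp_apply, ha,
      Iso.inv_hom_id_apply]
  let u₀ := ((φ : K ⊗[R₀] A →ₐ[K] MonoidAlgebra K (MU r)).restrictScalars R₀).comp
    Algebra.TensorProduct.includeRight
  have h₀ : IsGH u₀ := isGH_of_bialgHom φ
  have hgen : Algebra.adjoin K (Set.range u₀) = ⊤ := by
    refine eq_top_iff.2 fun p _ => ?_
    obtain ⟨z, rfl⟩ := hsurj p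
    induction z using TensorProduct.induction_on with
    | zero => rw [map_zero]; exact zero_mem _
    | add a b ha hb => rw [map_add]; exact add_mem (ha trivial) (hb trivial)
    | tmul k x =>
      rw [show k ⊗ₜ[R₀] x = k • ((1 : K) ⊗ₜ[R₀] x) by rw [TensorProduct.smul_tmul', smul_eq_mul, mul_one], map_smul]
      exact Subalgebra.smul_mem _ (Algebra.subset_adjoin (s := Set.range u₀) (Set.mem_range_self x)) _
  obtain ⟨L, _, _, v, f, hL, hv, hvgen, -⟩ := exists_smooth_family u₀ h₀ hgen
  let L' := R ⊗[R₀] L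
  let incl : L →ₐ[R₀] L' := Algebra.TensorProduct.includeRight
  haveI : Algebra.Smooth R L' := inferInstance
  obtain ⟨φ', hφ'⟩ := exists_bialgHom_of_isGH (hv.mapT incl) (adjoin_range_mapT incl hvgen)
  let g : Spec (CommRingCat.of L') ⟶ Spec (CommRingCat.of R) := Spec.map (CommRingCat.ofHom (algebraMap R L'))
  have hg : g ≫ Spec.map (CommRingCat.ofHom (algebraMap R₀ R)) =
      Spec.map (CommRingCat.ofHom (algebraMap R₀ L')) := by
    rw [← Spec.map_comp]; rfl
  obtain ⟨εL⟩ := nonempty_bc_model G eG (L := L') g hg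
  obtain ⟨δL⟩ := nonempty_DS_isoU L' r
  let qL := δL.hom ≫ (hopfSpec (CommRingCat.of L')).map (CommHopfAlgCat.ofHom (R := L') φ').op ≫ εL.inv
  haveI hqL : IsClosedImmersion qL.hom.hom.left := by
    haveI := isClosedImmersion_of_grpIso δL
    haveI := isClosedImmersion_of_grpIso εL.symm
    haveI : IsClosedImmersion
        (Spec.map (CommRingCat.ofHom (φ' : L' ⊗[R₀] A →ₐ[L'] MonoidAlgebra L' (MU r)).toRingHom)) :=
      IsClosedImmersion.spec_of_surjective _ hφ'
    show IsClosedImmersion (δL.hom.hom.hom.left ≫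
      Spec.map (CommRingCat.ofHom (φ' : L' ⊗[R₀] A →ₐ[L'] MonoidAlgebra L' (MU r)).toRingHom) ≫
        εL.symm.hom.hom.hom.left)
    infer_instance
  haveI : Smooth g := by
    rw [HasRingHomProperty.Spec_iff (P := @Smooth)]
    exact RingHom.smooth_algebraMap.2 inferInstance
  let T : Over (Spec (CommRingCat.of R)) := Over.mk g
  haveI : Smooth T.hom := inferInstanceAs (Smooth g)
  let F : L' →ₐ[R] K := Algebra.TensorProduct.lift (Algebra.ofId R K) f fun _ _ => Commute.all _ _
  let t : Over.mk (Red.geomPt s) ⟶ T := Over.homMk (Spec.map (CommRingCat.ofHom F.toRingHom)) (by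
    show Spec.map _ ≫ g = Red.geomPt s
    rw [← hθ, ← Spec.map_comp, ← CommRingCat.ofHom_comp]
    congr 2
    exact RingHom.ext F.commutes)
  obtain ⟨S', e, he, hse, ⟨σ⟩⟩ := MTBridge.exists_etale_point s t
  let h : S' ⟶ Spec (CommRingCat.of L') := σ.left
  have hhe : h ≫ g = e := (Over.w σ).trans (Category.id_comp e)
  let j := (bcDS h (Fin r → ℤ)).inv ≫ (Over.pullback h).mapGrp.map qL ≫ (bcComp g h G).inv ≫ (bcCongr hhe G).hom
  refine ⟨S', e, j.hom.hom, he, hse, j.hom.isMonHom_hom, ?_⟩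
  haveI := isClosedImmersion_of_grpIso (bcDS h (Fin r → ℤ)).symm
  haveI := isClosedImmersion_of_grpIso ((bcComp g h G).symm)
  haveI := isClosedImmersion_of_grpIso (bcCongr hhe G)
  haveI : IsClosedImmersion ((Over.pullback h).map qL.hom.hom).left :=
    MorphismProperty.of_isPullback (P := @IsClosedImmersion) (MTImage.isPullback_map qL.hom.hom h) hqL
  show IsClosedImmersion ((bcDS h (Fin r → ℤ)).symm.hom.hom.hom.left ≫ ((Over.pullback h).map qL.hom.hom).left ≫
    (bcComp g h G).symm.hom.hom.hom.left ≫ (bcCongr hhe G).hom.hom.hom.left)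
  infer_instance

end Groth.Agent.TorusLift
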