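import Groth.Agent.TorusLift.Bounded

/-!
# Smooth families of embeddings of split tori through a given one
-/

set_option autoImplicit false
set_option linter.style.haveILetI false
set_option backward.isDefEq.respectTransparency false
set_option maxHeartbeats 800000

universe u

open TensorProduct

noncomputable section

namespace Groth.Agent.TorusLift

variable {R A : Type u} [CommRing R] [CommRing A] [HopfAlgebra R A] {M : Type u} [CommGroup M]

/-- An idempotent endomorphism which vanishes at a field valued point is annihilated near it. -/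
theorem exists_smul_eq_zero_of_field {R' : Type u} [CommRing R'] {N : Type u} [AddCommGroup N] [Module R' N]
    [Module.Finite R' N] (p : N →ₗ[R'] N) (hp : ∀ x, p (p x) = p x) {K : Type u} [Field K] [Algebra R' K]
    (h : p.lTensor K = 0) : ∃ g : R', algebraMap R' K g ≠ 0 ∧ ∀ x, g • p x = 0 := by
  classical
  let Q := LinearMap.range p
  haveI : Module.Finite R' Q := Module.Finite.range p
  obtain ⟨pt, hpt⟩ : ∃ pt : PrimeSpectrum R', pt.asIdeal = RingHom.ker (algebraMap R' K) :=
    ⟨⟨_, RingHom.ker_isPrime _⟩, rfl⟩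
  letI : Algebra pt.asIdeal.ResidueField K := (Ideal.ResidueField.lift pt.asIdeal (algebraMap R' K) hpt.le
    fun a (ha : a ∉ pt.asIdeal) => isUnit_iff_ne_zero.2 fun h0 => ha (hpt ▸ RingHom.mem_ker.2 h0)).toAlgebra
  haveI : IsScalarTower R' pt.asIdeal.ResidueField K := .of_algebraMap_eq fun x =>
    (Ideal.ResidueField.lift_algebraMap _ _ _ _ x).symm
  have hK : Subsingleton (K ⊗[R'] Q) := by
    have hinc : Function.Injective (Q.subtype.lTensor K) :=
      Function.LeftInverse.injective (g := p.rangeRestrict.lTensor K) fun z => by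
        rw [← LinearMap.lTensor_comp_apply]
        have : p.rangeRestrict ∘ₗ Q.subtype = LinearMap.id := LinearMap.ext fun q => by
          obtain ⟨y, hy⟩ := q.2
          apply Subtype.ext
          show p (q : N) = q
          rw [← hy, hp]
        rw [this, LinearMap.lTensor_id, LinearMap.id_apply]
    refine subsingleton_of_forall_eq 0 fun z => hinc ?_
    rw [map_zero]
    have hz : Q.subtype.lTensor K z = p.lTensor K (Q.subtype.lTensor K z) := by
      rw [← LinearMap.lTensor_comp_apply, show p ∘ₗ Q.subtype = Q.subtype from LinearMap.ext fun q => by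
        obtain ⟨y, hy⟩ := q.2
        show p (q : N) = q
        rw [← hy, hp]]
    rw [hz, h, LinearMap.zero_apply]
  have hκ : Subsingleton (pt.asIdeal.ResidueField ⊗[R'] Q) := by
    haveI : Subsingleton (K ⊗[pt.asIdeal.ResidueField] (pt.asIdeal.ResidueField ⊗[R'] Q)) :=
      (TensorProduct.AlgebraTensorModule.cancelBaseChange R' pt.asIdeal.ResidueField K K Q).toEquiv.subsingleton
    exact Module.FaithfullyFlat.lTensor_reflects_triviality pt.asIdeal.ResidueField K _
  have hsupp : pt ∉ Module.support R' Q := fun hmem => by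
    have h1 := (Module.mem_support_iff_nontrivial_residueField_tensorProduct pt).1 hmem
    exact not_subsingleton _ hκ
  rw [Module.notMem_support_iff'] at hsupp
  obtain ⟨s, hs⟩ := Module.Finite.fg_top (R := R') (M := Q)
  choose r hr hr0 using hsupp
  refine ⟨∏ q ∈ s, r q, ?_, fun x => ?_⟩
  · rw [map_prod]
    exact Finset.prod_ne_zero_iff.2 fun q _ h0 => hr q (hpt ▸ RingHom.mem_ker.2 h0)
  · have hall : ∀ q : Q, (∏ q' ∈ s, r q') • q = 0 := fun q => by
      have hmem : q ∈ Submodule.span R' (s : Set Q) := hs ▸ Submodule.mem_top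
      induction hmem using Submodule.span_induction with
      | mem y hy =>
        rw [← Finset.prod_erase_mul _ _ (Finset.mem_coe.1 hy), mul_smul, hr0, smul_zero]
      | zero => simp
      | add a b _ _ ha hb => rw [smul_add, ha, hb, add_zero]
      | smul c a _ ha => rw [smul_comm, ha, smul_zero]
    exact congrArg Subtype.val (hall ⟨p x, x, rfl⟩)

/-- A coefficient which is invertible gives the monomial in the algebra generated by the image. -/
theorem single_mem_adjoin {T : Type u} [CommRing T] [Algebra R T] {u : A →ₐ[R] MonoidAlgebra T M} (h : IsGH u)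
    {m : M} {x : A} (hx : IsUnit (coef u m x)) :
    MonoidAlgebra.single m (1 : T) ∈ Algebra.adjoin T (Set.range u) := by
  classical
  let Ψ : A ⊗[R] A →ₗ[R] MonoidAlgebra T M := TensorProduct.lift
    (LinearMap.mk₂ R (fun a b => coef u m b • u a)
      (fun a a' b => by simp only [map_add, smul_add])
      (fun r a b => by simp only [map_smul, smul_comm r (coef u m b)])
      (fun a b b' => by simp only [map_add, add_smul])
      (fun r a b => by simp only [map_smul, smul_assoc]))
  have hΨ : ∀ z : A ⊗[R] A, Ψ z ∈ Subalgebra.toSubmodule (Algebra.adjoin T (Set.range u)) := fun z => by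
    induction z using TensorProduct.induction_on with
    | zero => simp
    | add a b ha hb => rw [map_add]; exact add_mem ha hb
    | tmul a b => exact Submodule.smul_mem _ _ (Algebra.subset_adjoin (Set.mem_range_self a))
  have hc : ∀ (z : A ⊗[R] A) (k : M), (Ψ z).coeff k = coef₂ u k m z := fun z k => by
    induction z using TensorProduct.induction_on with
    | zero => simp
    | add a b ha hb => rw [map_add, map_add, MonoidAlgebra.coeff_add, Finsupp.add_apply, ha, hb]
    | tmul a b =>
      show (coef u m b • u a).coeff k = _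
      rw [coef₂_tmul, MonoidAlgebra.coeff_smul, Finsupp.smul_apply, smul_eq_mul, mul_comm]
      rfl
  have heq : Ψ (Coalgebra.comul x) = coef u m x • MonoidAlgebra.single m (1 : T) := by
    refine MonoidAlgebra.ext (Finsupp.ext fun k => ?_)
    rw [hc, MonoidAlgebra.coeff_smul, Finsupp.smul_apply, MonoidAlgebra.coeff_single]
    by_cases hk : k = m
    · subst hk; simp [h.comul]
    · simp [h.comul_ne x k m hk, Finsupp.single_apply, Ne.symm hk]
  have := Submodule.smul_mem _ ((hx.unit⁻¹ : Tˣ) : T) (heq ▸ hΨ (Coalgebra.comul x))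
  rwa [smul_smul, IsUnit.val_inv_mul, one_smul] at this

/-- Generators of the image over a field have supports generating the characters. -/
theorem closure_support_eq_top {K : Type u} [Field K] [Algebra R K] (u : A →ₐ[R] MonoidAlgebra K M)
    {n : ℕ} (a : Fin n → A) (ha : Algebra.adjoin R (Set.range a) = ⊤)
    (hu : Algebra.adjoin K (Set.range u) = ⊤) :
    Submonoid.closure {m : M | ∃ i, coef u m (a i) ≠ 0} = ⊤ := by
  classical
  let N := Submonoid.closure {m : M | ∃ i, coef u m (a i) ≠ 0}
  let Q : Subalgebra K (MonoidAlgebra K M) := Algebra.adjoin K ((fun m => MonoidAlgebra.single m (1 : K)) '' N)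
  have hQ : ∀ p : MonoidAlgebra K M, (∀ m, p.coeff m ≠ 0 → m ∈ N) → p ∈ Q := fun p hp => by
    rw [← MonoidAlgebra.sum_coeff_single p]
    refine Subalgebra.sum_mem _ fun m hm => ?_
    rw [show MonoidAlgebra.single m (p.coeff m) = p.coeff m • MonoidAlgebra.single m (1 : K) by simp]
    exact Subalgebra.smul_mem Q (Algebra.subset_adjoin (Set.mem_image_of_mem _ (hp m (Finsupp.mem_support_iff.1 hm)))) _
  let Q' : Subalgebra R A := Subalgebra.comap u (Q.restrictScalars R)
  have hQ' : Q' = ⊤ := by
    rw [eq_top_iff, ← ha, Algebra.adjoin_le_iff]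
    rintro _ ⟨i, rfl⟩
    exact hQ _ fun m hm => Submonoid.subset_closure ⟨i, hm⟩
  have hle : Algebra.adjoin K (Set.range u) ≤ Q := Algebra.adjoin_le (by
    rintro _ ⟨x, rfl⟩
    have : x ∈ Q' := hQ' ▸ Algebra.mem_top
    exact this)
  rw [hu] at hle
  have hsupp : ∀ p ∈ Q, ∀ m, p.coeff m ≠ 0 → m ∈ N := by
    intro p hp
    induction hp using Algebra.adjoin_induction with
    | mem x hx =>
      obtain ⟨k, hk, rfl⟩ := hx
      intro m hm
      rw [MonoidAlgebra.coeff_single, Finsupp.single_apply] at hm
      split_ifs at hm with e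
      · exact e ▸ hk
      · exact absurd rfl hm
    | algebraMap r =>
      intro m hm
      rw [MonoidAlgebra.coe_algebraMap] at hm
      simp only [Function.comp_apply, Algebra.algebraMap_self, RingHom.id_apply, MonoidAlgebra.coeff_single,
        Finsupp.single_apply] at hm
      split_ifs at hm with e
      · exact e ▸ N.one_mem
      · exact absurd rfl hm
    | add x y _ _ hx hy =>
      intro m hm
      rw [MonoidAlgebra.coeff_add, Finsupp.add_apply] at hm
      by_cases h : x.coeff m = 0
      · exact hy m fun h' => hm (by rw [h, h', add_zero])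
      · exact hx m h
    | mul x y _ _ hx hy =>
      intro m hm
      have hmem := MonoidAlgebra.support_coeff_mul_subset x y (Finsupp.mem_support_iff.2 hm)
      obtain ⟨p, hp, q, hq, rfl⟩ := Finset.mem_mul.1 hmem
      exact N.mul_mem (hx p (Finsupp.mem_support_iff.1 hp)) (hy q (Finsupp.mem_support_iff.1 hq))
  exact eq_top_iff.2 fun m _ => hsupp _ (hle (Algebra.mem_top (x := MonoidAlgebra.single m (1 : K)))) m (by simp)

/-- A weight projection which dies at a point dies after tensoring with it. -/
theorem lTensor_proj_eq_zero {W : Type u} [AddCommGroup W] [Module R W] (c : Coact R A W) {R' : Type u}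
    [CommRing R'] [Algebra R R'] (u : A →ₐ[R] MonoidAlgebra R' M) {K : Type u} [CommRing K] [Algebra R K]
    [Algebra R' K] [IsScalarTower R R' K] (m : M)
    (h : proj c (mapT (IsScalarTower.toAlgHom R R' K) u) m = 0) : (proj c u m).lTensor K = 0 := by
  let e := TensorProduct.AlgebraTensorModule.cancelBaseChange R R' K K W
  let f := IsScalarTower.toAlgHom R R' K
  have he : ∀ (k : K) (y : R' ⊗[R] W), e (k ⊗ₜ y) = k • f.toLinearMap.rTensor W y := fun k y => by
    induction y using TensorProduct.induction_on with
    | zero => simp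
    | add a b ha hb => simp only [TensorProduct.tmul_add, map_add, smul_add, ha, hb]
    | tmul r w => simp [e, f, TensorProduct.smul_tmul', Algebra.smul_def, mul_comm]
  refine LinearMap.ext fun z => ?_
  induction z using TensorProduct.induction_on with
  | zero => simp
  | add a b ha hb => rw [map_add, ha, hb, map_add]
  | tmul k x =>
    apply e.injective
    rw [LinearMap.lTensor_tmul, he, map_proj, h]
    simp

/-- **A closed immersion of a diagonalisable group into a smooth affine group spreads to a smooth family.** -/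
theorem exists_smooth_family [IsNoetherianRing R] [Algebra.Smooth R A] {K : Type u} [Field K] [Algebra R K]
    (u₀ : A →ₐ[R] MonoidAlgebra K M) (h₀ : IsGH u₀) (hgen : Algebra.adjoin K (Set.range u₀) = ⊤) :
    ∃ (L : Type u) (_ : CommRing L) (_ : Algebra R L) (v : A →ₐ[R] MonoidAlgebra L M) (f : L →ₐ[R] K),
      Algebra.Smooth R L ∧ IsGH v ∧ Algebra.adjoin L (Set.range v) = ⊤ ∧ mapT f v = u₀ := by
  classical
  obtain ⟨n, π, hπ⟩ := Algebra.FiniteType.iff_quotient_mvPolynomial''.1
    (inferInstance : Algebra.FiniteType R A)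
  let a : Fin n → A := fun i => π (MvPolynomial.X i)
  have ha : Algebra.adjoin R (Set.range a) = ⊤ := by
    rw [show Set.range a = π '' Set.range MvPolynomial.X by rw [← Set.range_comp]; rfl, ← AlgHom.map_adjoin,
      MvPolynomial.adjoin_range_X, Algebra.map_top, AlgHom.range_eq_top]
    exact hπ
  obtain ⟨W, hWfg, hmem, hW⟩ := exists_fg_stable_fin a
  haveI : Module.Finite R W := Module.Finite.iff_fg.2 hWfg
  obtain ⟨c, hc⟩ := exists_coact W hW
  let e : W →ₗ[R] R := (Coalgebra.counit (R := R) (A := A)).comp W.subtype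
  let w : Fin n → W := fun i => ⟨a i, hmem i⟩
  obtain ⟨F₀, hF₀⟩ := exists_finite_weights c u₀
  let B : Finset M := F₀ ∪ Finset.univ.biUnion fun i => (u₀ (a i)).coeff.support
  have hB : ∀ i, ∀ m ∉ B, coef u₀ m (a i) = 0 := fun i m hm => Finsupp.notMem_support_iff.1 fun h =>
    hm (Finset.mem_union_right _ (Finset.mem_biUnion.2 ⟨i, Finset.mem_univ _, h⟩))
  obtain ⟨R', _, _, u, hft, hu, hub, huniv, hinj⟩ := exists_bounded a ha B
  obtain ⟨f₀, hf₀⟩ := huniv K u₀ h₀ hB
  letI : Algebra R' K := f₀.toAlgebra
  haveI : IsScalarTower R R' K := .of_algebraMap_eq fun r => (f₀.commutes r).symm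
  obtain ⟨F, hF⟩ := exists_finite_weights c u
  have hex : ∀ m : M, ∃ g : R', f₀ g ≠ 0 ∧ (m ∉ B → ∀ x, g • proj c u m x = 0) := fun m => by
    by_cases hm : m ∈ B
    · exact ⟨1, by simp, fun h => absurd hm h⟩
    · haveI : Module.Finite R' (R' ⊗[R] W) := Module.Finite.base_change R R' W
      obtain ⟨g, hg, hg'⟩ := exists_smul_eq_zero_of_field (proj c u m) (fun x => (proj_comp c hu m m x).1 rfl)
        (K := K) (lTensor_proj_eq_zero c u m (by
          rw [show IsScalarTower.toAlgHom R R' K = f₀ from AlgHom.ext fun _ => rfl, hf₀]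
          exact hF₀ m fun h => hm (Finset.mem_union_left _ h)))
      exact ⟨g, hg, fun _ => hg'⟩
  choose g₁ hg₁ hg₁' using hex
  let P : Finset (M × Fin n) := (B ×ˢ Finset.univ).filter fun p => coef u₀ p.1 (a p.2) ≠ 0
  let gB := ∏ m ∈ F, g₁ m
  let g : R' := gB * ∏ p ∈ P, coef u p.1 (a p.2)
  have hgK : f₀ g ≠ 0 := by
    refine (map_mul f₀ _ _).trans_ne (mul_ne_zero ?_ ?_)
    · rw [map_prod]; exact Finset.prod_ne_zero_iff.2 fun m _ => hg₁ m
    · rw [map_prod]
      exact Finset.prod_ne_zero_iff.2 fun p hp => by
        rw [← coef_mapT, hf₀]; exact (Finset.mem_filter.1 hp).2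
  have hgkill : ∀ m ∉ B, ∀ x : R' ⊗[R] W, g • proj c u m x = 0 := fun m hm x => by
    by_cases hmF : m ∈ F
    · rw [show g = ((∏ i ∈ F.erase m, g₁ i) * ∏ p ∈ P, coef u p.1 (a p.2)) * g₁ m by
        simp only [g, gB]; rw [← Finset.prod_erase_mul F g₁ hmF]; ring, mul_smul, hg₁' m hm, smul_zero]
    · rw [hF m hmF]; simp
  let L := Localization.Away g
  haveI : Algebra.FiniteType R' L := IsLocalization.finiteType_of_monoid_fg (Submonoid.powers g) L
  haveI : Algebra.FiniteType R L := Algebra.FiniteType.trans hft inferInstance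
  haveI : Algebra.FinitePresentation R L := Algebra.FinitePresentation.of_finiteType.1 inferInstance
  haveI hfs : Algebra.FormallySmooth R L :=
    formallySmooth_away c e a w (fun i => hc (w i)) B u hu huniv hinj g hgkill
  let ι : R' →ₐ[R] L := IsScalarTower.toAlgHom R R' L
  let v := mapT ι u
  let f : L →ₐ[R] K := IsLocalization.liftAlgHom (M := Submonoid.powers g) (f := f₀) fun y => by
    obtain ⟨_, N, rfl⟩ := y
    rw [map_pow]
    exact (isUnit_iff_ne_zero.2 hgK).pow N
  have hfι : f.comp ι = f₀ := AlgHom.ext fun x => by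
    simp [f, ι, IsLocalization.liftAlgHom_apply, IsLocalization.lift_eq]
  refine ⟨L, inferInstance, inferInstance, v, f, ⟨hfs, inferInstance⟩, hu.mapT ι, eq_top_iff.2 fun p _ => ?_, ?_⟩
  · have hone : ∀ m, MonoidAlgebra.single m (1 : L) ∈ Algebra.adjoin L (Set.range v) := fun m => by
      have hm : m ∈ Submonoid.closure {m : M | ∃ i, coef u₀ m (a i) ≠ 0} := by
        rw [closure_support_eq_top u₀ a ha hgen]; trivial
      induction hm using Submonoid.closure_induction with
      | mem k hk =>
        obtain ⟨i, hi⟩ := hk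
        refine single_mem_adjoin (hu.mapT ι) (x := a i) ?_
        rw [coef_mapT]
        have hkB : k ∈ B := by_contra fun h => hi (hB i k h)
        have hkP : (k, i) ∈ P := Finset.mem_filter.2 ⟨Finset.mem_product.2 ⟨hkB, Finset.mem_univ _⟩, hi⟩
        refine isUnit_of_dvd_unit ?_ (IsLocalization.Away.algebraMap_isUnit g : IsUnit (algebraMap R' L g))
        exact map_dvd _ (Dvd.dvd.mul_left (Finset.dvd_prod_of_mem (fun p : M × Fin n => coef u p.1 (a p.2)) hkP) _)
      | one => exact one_mem _
      | mul x y _ _ hx hy =>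
        have h := mul_mem hx hy
        rwa [MonoidAlgebra.single_mul_single, mul_one] at h
    rw [← MonoidAlgebra.sum_coeff_single p]
    refine Subalgebra.sum_mem _ fun m _ => ?_
    rw [show MonoidAlgebra.single m (p.coeff m) = p.coeff m • MonoidAlgebra.single m (1 : L) by simp]
    exact Subalgebra.smul_mem _ (hone m) _
  · rw [← hf₀, ← hfι]
    exact AlgHom.ext fun x => MonoidAlgebra.ext (Finsupp.ext fun m => by
      rw [← coef_apply (mapT f v), ← coef_apply (mapT (f.comp ι) u), coef_mapT, coef_mapT, coef_mapT]; rfl)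
where
  /-- A finite stable submodule containing given elements. -/
  exists_fg_stable_fin {n : ℕ} (a : Fin n → A) : ∃ W : Submodule R A, W.FG ∧ (∀ i, a i ∈ W) ∧
      ∀ w ∈ W, Coalgebra.comul w ∈ LinearMap.range (W.subtype.rTensor A) := by
    obtain ⟨W, hle, hfg, hW⟩ := Comod.exists_fg_stable (Coalgebra.comul (R := R) (A := A))
      (LinearMap.ext fun x => Coalgebra.coassoc_apply (R := R) x)
      (LinearMap.ext fun x => Coalgebra.lTensor_counit_comul (R := R) x)
      (Submodule.span R (Set.range a)) (Submodule.fg_span (Set.finite_range a))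
    exact ⟨W, hfg, fun i => hle (Submodule.subset_span (Set.mem_range_self i)), hW⟩

end Groth.Agent.TorusLift
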