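import Groth.Agent.Comod.FGSub
import Mathlib

/-!
# Weights of comodules under homomorphisms from diagonalisable groups

A homomorphism from `D(M)` into `Spec A` over `T` is an algebra map `u : A → T[M]` whose coefficient maps are
orthogonal idempotents for the convolution.  Such a map grades every comodule, and the supports of `u` on the
matrix coefficients of a comodule are bounded by its weights.
-/

set_option autoImplicit false

universe u

open TensorProduct

noncomputable section

namespace Groth.Agent.TorusLift

variable {R A : Type u} [CommRing R] [CommRing A] [Bialgebra R A]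
  {M : Type u} [CommGroup M] {T : Type u} [CommRing T] [Algebra R T]

/-- The coefficient of a Laurent polynomial. -/
def co (m : M) : MonoidAlgebra T M →ₗ[T] T where
  toFun x := x.coeff m
  map_add' x y := by simp
  map_smul' r x := by simp

@[simp] theorem co_apply (m : M) (x : MonoidAlgebra T M) : co m x = x.coeff m := rfl

/-- The coefficient of a map into Laurent polynomials. -/
def coef (u : A →ₐ[R] MonoidAlgebra T M) (m : M) : A →ₗ[R] T :=
  ((co m).restrictScalars R).comp u.toLinearMap

theorem coef_apply (u : A →ₐ[R] MonoidAlgebra T M) (m : M) (x : A) : coef u m x = (u x).coeff m := rfl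

/-- The product of two coefficient maps applied to a tensor. -/
def coef₂ (u : A →ₐ[R] MonoidAlgebra T M) (m n : M) : A ⊗[R] A →ₗ[R] T :=
  (LinearMap.mul' R T).comp (TensorProduct.map (coef u m) (coef u n))

theorem coef₂_tmul (u : A →ₐ[R] MonoidAlgebra T M) (m n : M) (x y : A) :
    coef₂ u m n (x ⊗ₜ y) = coef u m x * coef u n y := by
  simp [coef₂]

/-- An algebra map into Laurent polynomials defining a homomorphism out of a diagonalisable group. -/
structure IsGH (u : A →ₐ[R] MonoidAlgebra T M) : Prop where
  comul : ∀ (x : A) (m : M), coef₂ u m m (Coalgebra.comul x) = coef u m x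
  comul_ne : ∀ (x : A) (m n : M), m ≠ n → coef₂ u m n (Coalgebra.comul x) = 0
  counit : ∀ x : A, (u x).coeff.sum (fun _ c => c) = algebraMap R T (Coalgebra.counit x)

/-- Composing the coefficients with an algebra map. -/
def mapT {T' : Type u} [CommRing T'] [Algebra R T'] (f : T →ₐ[R] T') (u : A →ₐ[R] MonoidAlgebra T M) :
    A →ₐ[R] MonoidAlgebra T' M :=
  (MonoidAlgebra.mapAlgHom M f).comp u

theorem coef_mapT {T' : Type u} [CommRing T'] [Algebra R T'] (f : T →ₐ[R] T') (u : A →ₐ[R] MonoidAlgebra T M)
    (m : M) (x : A) : coef (mapT f u) m x = f (coef u m x) := by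
  simp [coef_apply, mapT, MonoidAlgebra.coeff_mapAlgHom]

theorem IsGH.mapT {T' : Type u} [CommRing T'] [Algebra R T'] {u : A →ₐ[R] MonoidAlgebra T M} (h : IsGH u)
    (f : T →ₐ[R] T') : IsGH (mapT f u) := by
  have key : ∀ (m n : M) (z : A ⊗[R] A), coef₂ (TorusLift.mapT f u) m n z = f (coef₂ u m n z) := by
    intro m n z
    induction z using TensorProduct.induction_on with
    | zero => simp
    | add a b ha hb => simp only [map_add, ha, hb]
    | tmul a b => rw [coef₂_tmul, coef₂_tmul, coef_mapT, coef_mapT, map_mul]
  refine ⟨fun x m => by rw [key, h.comul, coef_mapT], fun x m n hmn => by rw [key, h.comul_ne x m n hmn, map_zero],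
    fun x => ?_⟩
  rw [← f.commutes, ← h.counit, map_finsuppSum]
  show (MonoidAlgebra.mapAlgHom M f (u x)).coeff.sum (fun _ c => c) = _
  rw [show (MonoidAlgebra.mapAlgHom M f (u x)).coeff = (u x).coeff.mapRange f (map_zero f) from
    Finsupp.ext fun m => by rw [MonoidAlgebra.coeff_mapAlgHom, Finsupp.mapRange_apply],
    Finsupp.sum_mapRange_index fun _ => rfl]

section Comodule

variable {W : Type u} [AddCommGroup W] [Module R W]

/-- A coaction with the axioms of a comodule, and a functional giving the matrix coefficients. -/
structure Coact (R A W : Type u) [CommRing R] [CommRing A] [Bialgebra R A] [AddCommGroup W] [Module R W] where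
  /-- The coaction. -/
  ρ : W →ₗ[R] W ⊗[R] A
  coassoc : (TensorProduct.assoc R W A A).toLinearMap ∘ₗ ρ.rTensor A ∘ₗ ρ =
    (Coalgebra.comul (R := R) (A := A)).lTensor W ∘ₗ ρ
  counit : (Coalgebra.counit (R := R) (A := A)).lTensor W ∘ₗ ρ = (TensorProduct.mk R W R).flip 1

/-- The weight projection on the generators. -/
def proj₀ (c : Coact R A W) (u : A →ₐ[R] MonoidAlgebra T M) (m : M) : W →ₗ[R] T ⊗[R] W :=
  (TensorProduct.comm R W T).toLinearMap ∘ₗ (coef u m).lTensor W ∘ₗ c.ρ

/-- The weight projection. -/
def proj (c : Coact R A W) (u : A →ₐ[R] MonoidAlgebra T M) (m : M) : T ⊗[R] W →ₗ[T] T ⊗[R] W :=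
  (proj₀ c u m).liftBaseChange T

theorem proj_tmul (c : Coact R A W) (u : A →ₐ[R] MonoidAlgebra T M) (m : M) (t : T) (w : W) :
    proj c u m (t ⊗ₜ w) = t • proj₀ c u m w := LinearMap.liftBaseChange_tmul T _ t w

/-- Moving the weights to the coefficient ring. -/
theorem proj_comp (c : Coact R A W) {u : A →ₐ[R] MonoidAlgebra T M} (h : IsGH u) (m n : M) (x : T ⊗[R] W) :
    (m = n → proj c u m (proj c u n x) = proj c u n x) ∧ (m ≠ n → proj c u m (proj c u n x) = 0) := by
  let Φ : W ⊗[R] (A ⊗[R] A) →ₗ[R] T ⊗[R] W :=
    (TensorProduct.comm R W T).toLinearMap ∘ₗ (coef₂ u m n).lTensor W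
  have hgen : ∀ w : W, proj c u m (proj₀ c u n w) = Φ (TensorProduct.assoc R W A A (c.ρ.rTensor A (c.ρ w))) := by
    intro w
    show proj c u m (TensorProduct.comm R W T ((coef u n).lTensor W (c.ρ w))) = _
    induction c.ρ w using TensorProduct.induction_on with
    | zero => simp
    | add a b ha hb => simp only [map_add, ha, hb]
    | tmul a y =>
      rw [LinearMap.lTensor_tmul, TensorProduct.comm_tmul, proj_tmul, LinearMap.rTensor_tmul]
      show coef u n y • (TensorProduct.comm R W T ((coef u m).lTensor W (c.ρ a))) = _
      induction c.ρ a using TensorProduct.induction_on with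
      | zero => simp
      | add a b ha hb => simp only [map_add, smul_add, ha, hb, TensorProduct.add_tmul]
      | tmul b z =>
        simp [Φ, coef₂_tmul, TensorProduct.smul_tmul', mul_comm]
  have hco : ∀ w : W, TensorProduct.assoc R W A A (c.ρ.rTensor A (c.ρ w)) =
      (Coalgebra.comul (R := R) (A := A)).lTensor W (c.ρ w) := fun w => LinearMap.congr_fun c.coassoc w
  have hΦ : ∀ y : W ⊗[R] A, (m = n → Φ ((Coalgebra.comul (R := R) (A := A)).lTensor W y) =
      TensorProduct.comm R W T ((coef u n).lTensor W y)) ∧
      (m ≠ n → Φ ((Coalgebra.comul (R := R) (A := A)).lTensor W y) = 0) := by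
    intro y
    induction y using TensorProduct.induction_on with
    | zero => simp
    | add a b ha hb =>
      exact ⟨fun e => by rw [map_add, map_add, ha.1 e, hb.1 e, map_add, map_add],
        fun e => by rw [map_add, map_add, ha.2 e, hb.2 e, add_zero]⟩
    | tmul a z =>
      refine ⟨fun e => ?_, fun e => ?_⟩
      · subst e; simp [Φ, h.comul]
      · simp [Φ, h.comul_ne z m n e]
  induction x using TensorProduct.induction_on with
  | zero => simp
  | add a b ha hb =>
    exact ⟨fun e => by rw [map_add, map_add, ha.1 e, hb.1 e],
      fun e => by rw [map_add, map_add, ha.2 e, hb.2 e, add_zero]⟩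
  | tmul t w =>
    refine ⟨fun e => ?_, fun e => ?_⟩
    · rw [proj_tmul, map_smul, hgen, hco, (hΦ _).1 e]; rfl
    · rw [proj_tmul, map_smul, hgen, hco, (hΦ _).2 e, smul_zero]

/-- The functional extended to the coefficient ring. -/
def evT (e : W →ₗ[R] R) : T ⊗[R] W →ₗ[T] T :=
  ((Algebra.linearMap R T).comp e).liftBaseChange T

/-- The coefficients of the matrix coefficients are read off from the weights. -/
theorem coef_matrix (c : Coact R A W) (e : W →ₗ[R] R) (u : A →ₐ[R] MonoidAlgebra T M) (m : M) (w : W) :
    coef u m (TensorProduct.lid R A (e.rTensor A (c.ρ w))) = evT e (proj₀ c u m w) := by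
  show _ = evT e (TensorProduct.comm R W T ((coef u m).lTensor W (c.ρ w)))
  induction c.ρ w using TensorProduct.induction_on with
  | zero => simp
  | add a b ha hb => simp only [map_add, ha, hb]
  | tmul a y =>
    have h : coef u m (e a • y) = e a • coef u m y := map_smul _ _ _
    simp [evT, h]
    simp [Algebra.smul_def, mul_comm]

/-- Weights are natural in the coefficient ring. -/
theorem map_proj {T' : Type u} [CommRing T'] [Algebra R T'] (c : Coact R A W) (u : A →ₐ[R] MonoidAlgebra T M)
    (f : T →ₐ[R] T') (m : M) (x : T ⊗[R] W) :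
    f.toLinearMap.rTensor W (proj c u m x) = proj c (TorusLift.mapT f u) m (f.toLinearMap.rTensor W x) := by
  have hsmul : ∀ (t : T) (y : T ⊗[R] W),
      f.toLinearMap.rTensor W (t • y) = f t • f.toLinearMap.rTensor W y := fun t y => by
    induction y using TensorProduct.induction_on with
    | zero => simp
    | add a b ha hb => simp only [smul_add, map_add, ha, hb]
    | tmul a b => simp [TensorProduct.smul_tmul']
  induction x using TensorProduct.induction_on with
  | zero => simp
  | add a b ha hb => simp only [map_add, ha, hb]
  | tmul t w =>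
    rw [proj_tmul, LinearMap.rTensor_tmul, AlgHom.toLinearMap_apply, proj_tmul, hsmul]
    congr 1
    show f.toLinearMap.rTensor W (TensorProduct.comm R W T ((coef u m).lTensor W (c.ρ w))) =
      TensorProduct.comm R W T' ((coef (TorusLift.mapT f u) m).lTensor W (c.ρ w))
    induction c.ρ w using TensorProduct.induction_on with
    | zero => simp
    | add a b ha hb => simp only [map_add, ha, hb]
    | tmul a y => simp [coef_mapT]

/-- Only finitely many weights occur. -/
theorem exists_finite_weights (c : Coact R A W) [Module.Finite R W] (u : A →ₐ[R] MonoidAlgebra T M) :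
    ∃ F : Finset M, ∀ m ∉ F, proj c u m = 0 := by
  classical
  obtain ⟨s, hs⟩ := Module.Finite.fg_top (R := R) (M := W)
  choose F hF using fun w : W => exists_finset_of_tensor u (c.ρ w)
  refine ⟨s.biUnion F, fun m hm => ?_⟩
  have hp : proj₀ c u m = 0 := by
    refine LinearMap.ext_on hs fun w hw => ?_
    show TensorProduct.comm R W T ((coef u m).lTensor W (c.ρ w)) = (0 : W →ₗ[R] T ⊗[R] W) w
    rw [hF w m fun h => hm (Finset.mem_biUnion.2 ⟨w, hw, h⟩), map_zero]
    rfl
  show (proj₀ c u m).liftBaseChange T = 0
  rw [hp]
  ext w
  simp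
where
  /-- A tensor involves finitely many coefficients. -/
  exists_finset_of_tensor (u : A →ₐ[R] MonoidAlgebra T M) (y : W ⊗[R] A) :
      ∃ F : Finset M, ∀ m ∉ F, (coef u m).lTensor W y = 0 := by
    classical
    induction y using TensorProduct.induction_on with
    | zero => exact ⟨∅, fun m _ => map_zero _⟩
    | add a b ha hb =>
      obtain ⟨F₁, h₁⟩ := ha
      obtain ⟨F₂, h₂⟩ := hb
      exact ⟨F₁ ∪ F₂, fun m hm => by
        rw [Finset.mem_union, not_or] at hm
        rw [map_add, h₁ m hm.1, h₂ m hm.2, add_zero]⟩
    | tmul a z =>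
      refine ⟨(u z).coeff.support, fun m hm => ?_⟩
      rw [LinearMap.lTensor_tmul, coef_apply, Finsupp.notMem_support_iff.1 hm, TensorProduct.tmul_zero]

end Comodule

/-- A stable submodule of a flat bialgebra is a comodule. -/
theorem exists_coact [Module.Flat R A] (W : Submodule R A)
    (hW : ∀ w ∈ W, Coalgebra.comul w ∈ LinearMap.range (W.subtype.rTensor A)) :
    ∃ c : Coact R A W, ∀ w : W, TensorProduct.lid R A
      (((Coalgebra.counit (R := R) (A := A)).comp W.subtype).rTensor A (c.ρ w)) = w := by
  let i := W.subtype.rTensor A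
  have hi : Function.Injective i := Module.Flat.rTensor_preserves_injective_linearMap _ Subtype.val_injective
  let e := LinearEquiv.ofInjective i hi
  let ρ : W →ₗ[R] W ⊗[R] A := e.symm.toLinearMap ∘ₗ
    ((Coalgebra.comul (R := R) (A := A)).comp W.subtype).codRestrict _ (fun w => hW w w.2)
  have hρ : ∀ w : W, i (ρ w) = Coalgebra.comul (w : A) := fun w =>
    congrArg Subtype.val (e.apply_symm_apply ⟨Coalgebra.comul (w : A), hW w w.2⟩)
  refine ⟨⟨ρ, ?_, ?_⟩, fun w => ?_⟩
  · refine LinearMap.ext fun w => ?_
    have hinj : Function.Injective (W.subtype.rTensor (A ⊗[R] A)) :=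
      Module.Flat.rTensor_preserves_injective_linearMap _ Subtype.val_injective
    apply hinj
    simp only [LinearMap.comp_apply, LinearEquiv.coe_coe]
    have k1 : ∀ t : (W ⊗[R] A) ⊗[R] A, W.subtype.rTensor (A ⊗[R] A) (TensorProduct.assoc R W A A t) =
        TensorProduct.assoc R A A A (i.rTensor A t) := fun t => by
      induction t using TensorProduct.induction_on with
      | zero => simp
      | add a b ha hb => simp only [map_add, ha, hb]
      | tmul a b =>
        induction a using TensorProduct.induction_on with
        | zero => simp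
        | add a a' ha ha' => simp only [TensorProduct.add_tmul, map_add, ha, ha']
        | tmul a a' => simp [i]
    have k2 : ∀ t : W ⊗[R] A, W.subtype.rTensor (A ⊗[R] A) ((Coalgebra.comul (R := R) (A := A)).lTensor W t) =
        (Coalgebra.comul (R := R) (A := A)).lTensor A (i t) := fun t => by
      induction t using TensorProduct.induction_on with
      | zero => simp
      | add a b ha hb => simp only [map_add, ha, hb]
      | tmul a b => simp [i]
    have k3 : ∀ t : W ⊗[R] A, i.rTensor A (ρ.rTensor A t) =
        (Coalgebra.comul (R := R) (A := A)).rTensor A (i t) := fun t => by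
      induction t using TensorProduct.induction_on with
      | zero => simp
      | add a b ha hb => simp only [map_add, ha, hb]
      | tmul a b => simp [hρ, i]
    rw [k1, k2, k3, hρ]
    exact Coalgebra.coassoc_apply (R := R) (w : A)
  · refine LinearMap.ext fun w => ?_
    have k : ∀ t : W ⊗[R] A, W.subtype.rTensor R ((Coalgebra.counit (R := R) (A := A)).lTensor W t) =
        (Coalgebra.counit (R := R) (A := A)).lTensor A (i t) := fun t => by
      induction t using TensorProduct.induction_on with
      | zero => simp
      | add a b ha hb => simp only [map_add, ha, hb]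
      | tmul a b => simp [i]
    have hinj : Function.Injective (W.subtype.rTensor R) := fun a b h => by
      apply (TensorProduct.rid R W).injective
      apply Subtype.val_injective
      have key : ∀ t : W ⊗[R] R, TensorProduct.rid R A (W.subtype.rTensor R t) = (TensorProduct.rid R W t : A) :=
        fun t => by
          induction t using TensorProduct.induction_on with
          | zero => simp
          | add a b ha hb => simp only [map_add, ha, hb, Submodule.coe_add]
          | tmul a b => simp
      rw [← key, ← key, h]
    apply hinj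
    simp only [LinearMap.comp_apply]
    rw [k, hρ, Coalgebra.lTensor_counit_comul]
    simp
  · have k : ∀ t : W ⊗[R] A, ((Coalgebra.counit (R := R) (A := A)).comp W.subtype).rTensor A t =
        (Coalgebra.counit (R := R) (A := A)).rTensor A (i t) := fun t => by
      rw [← LinearMap.rTensor_comp_apply]
    rw [k, hρ, Coalgebra.rTensor_counit_comul, TensorProduct.lid_tmul, one_smul]

end Groth.Agent.TorusLift
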